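import Cfsg.Agent.TAB.M7.BoxA
import Cfsg.Agent.H537.TC.DSeven
import Cfsg.Agent.H58.Mon.FiveB

/-!
# The Monster: the boxes `7B`, `21B`, `21D`, `35B` (helper46, TAB)
-/

set_option autoImplicit false
set_option maxRecDepth 100000

namespace Cfsg.Agent.TAB.M7

open Cfsg Cfsg.Agent.TAB.Eng Cfsg.Agent.TAB.M Cfsg.Agent.TAB.C2B
open Cfsg.Agent.MonsterX Cfsg.Agent.MonsterU
open Cfsg.Agent.BpSpor.MBigModel
open Subgroup (centralizer zpowers mem_centralizer_singleton_iff)

section abs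

variable {G : Type*} [Group G] [Finite G]

/-- `C(w) / Q` has only one involution -/
theorem mul_mem_abs {w z : G} {Q : Subgroup G} (hw : orderOf w = 7) (hzw : z * w = w * z)
    (hle : Q ≤ centralizer ({w} : Set G)) (hnorm : ∀ d : G, d * w = w * d → ∀ q ∈ Q, d * q * d⁻¹ ∈ Q)
    (hQ : Nat.card Q = 7 ^ 5) (hD : Nat.card (centralizer ({w} : Set G)) = 7 ^ 5 * 5040)
    (hE : Nat.card ↥(centralizer ({z} : Set G) ⊓ centralizer ({w} : Set G)) = 35280)
    (hfree : ∀ q ∈ Q, q * z = z * q → q ∈ zpowers w)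
    (honly : ∀ t : G, t * w = w * t → t * z = z * t → t * t = 1 → t = 1 ∨ t = z)
    {u : G} (hu : u * w = w * u) (huu : u * u = 1) (hu1 : u ≠ 1) : u * z ∈ Q := by
  let D := centralizer ({w} : Set G)
  let Q' : Subgroup D := Q.subgroupOf D
  have hn : Q'.Normal := ⟨fun q hq d => hnorm d (mem_centralizer_singleton_iff.1 d.2) q hq⟩
  let E : Subgroup D := (centralizer ({z} : Set G) ⊓ D).subgroupOf D
  have hE' : Nat.card E = 35280 := by
    rw [← hE]
    exact Nat.card_congr (Subgroup.subgroupOfEquivOfLe inf_le_right).toEquiv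
  have hQ' : Nat.card Q' = 7 ^ 5 := by
    rw [← hQ]
    exact Nat.card_congr (Subgroup.subgroupOfEquivOfLe hle).toEquiv
  have hq : Nat.card (D ⧸ Q') = 5040 := by
    have h1 := Subgroup.card_eq_card_quotient_mul_card_subgroup Q'
    rw [hQ', hD] at h1
    omega
  let f : E →* D ⧸ Q' := (QuotientGroup.mk' Q').comp E.subtype
  have hmem : ∀ a : E, f a = 1 → ((a : D) : G) ∈ zpowers w := fun a ha =>
    hfree _ ((QuotientGroup.eq_one_iff (a : D)).1 ha) (mem_centralizer_singleton_iff.1 a.2.1)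
  have hk : Nat.card f.ker ≤ 7 := by
    rw [← hw, ← Nat.card_zpowers]
    exact Nat.card_le_card_of_injective (fun a => ⟨((a : E) : D), hmem a a.2⟩) fun a b hab =>
      Subtype.ext (Subtype.ext (Subtype.ext (congrArg Subtype.val hab :)))
  have hr : f.range = ⊤ := by
    have h1 := Subgroup.card_mul_index f.ker
    rw [Subgroup.index_ker, hE'] at h1
    refine Subgroup.eq_top_of_le_card _ ?_
    rw [hq]
    by_contra h2
    have h3 := Nat.mul_le_mul hk (Nat.le_of_lt_succ (show Nat.card f.range < 5039 + 1 by omega))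
    omega
  let u' : D := ⟨u, mem_centralizer_singleton_iff.2 hu⟩
  let z' : D := ⟨z, mem_centralizer_singleton_iff.2 hzw⟩
  obtain ⟨a, ha⟩ := MonoidHom.range_eq_top.1 hr (QuotientGroup.mk u')
  have huu' : u' * u' = 1 := Subtype.ext huu
  have h1 : f (a * a) = 1 := by rw [map_mul, ha, ← QuotientGroup.mk_mul, huu', QuotientGroup.mk_one]
  have h2 : (((a * a : E) : D) : G) ^ 7 = 1 := by
    obtain ⟨i, hi⟩ := Subgroup.mem_zpowers_iff.1 (hmem _ h1)
    rw [← hi, ← zpow_natCast, ← zpow_mul, mul_comm, zpow_mul, zpow_natCast, ← hw, pow_orderOf_eq_one, one_zpow]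
  have h3 : f (a ^ 7) = QuotientGroup.mk u' := by
    rw [show a ^ 7 = (a * a) ^ 3 * a by rw [← pow_two, ← pow_mul, ← pow_succ], map_mul, map_pow, h1, one_pow, one_mul, ha]
  have h4 := honly (((a ^ 7 : E) : D) : G) (mem_centralizer_singleton_iff.1 ((a ^ 7 : E) : D).2)
    (mem_centralizer_singleton_iff.1 (a ^ 7 : E).2.1) (by
      rw [← h2]
      push_cast
      rw [(Commute.refl _).mul_pow])
  rcases h4 with h4 | h4
  · exfalso
    have h5 : a ^ 7 = 1 := Subtype.ext (Subtype.ext h4)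
    rw [h5, map_one] at h3
    have h6 : u ∈ Q := (QuotientGroup.eq_one_iff u').1 h3.symm
    have h7 : orderOf u ∣ 7 ^ 5 := hQ ▸ Subgroup.orderOf_dvd_natCard Q h6
    have h8 : orderOf u ∣ 2 := orderOf_dvd_of_pow_eq_one (by rw [pow_two, huu])
    exact hu1 (orderOf_eq_one_iff.1 (Nat.eq_one_of_dvd_coprimes (by norm_num) h7 h8))
  · have h5 : ((a ^ 7 : E) : D) = z' := Subtype.ext h4
    have h6 : (QuotientGroup.mk z' : D ⧸ Q') = QuotientGroup.mk u' := by rw [← h5]; exact h3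
    have h7 : u⁻¹ * z ∈ Q := (QuotientGroup.eq.1 h6.symm :)
    rwa [inv_eq_of_mul_eq_one_right huu] at h7

theorem count_abs {w z g : G} {Q : Subgroup G} (b : ℕ) (hw : orderOf w = 7) (hwg : w ∈ zpowers g) (hwQ : w ∈ Q)
    (hzg : g * z = z * g) (hz : orderOf z = 2) (H : ∀ u : G, u * w = w * u → u * u = 1 → u ≠ 1 → u * z ∈ Q) :
    Nat.card {u : G // IsConj z u ∧ u * g = g * u} * 7 ≤ Nat.card ↥(Q ⊓ centralizer ({g ^ b} : Set G)) := by
  have hzp : zpowers w ≤ zpowers g := Subgroup.zpowers_le.2 hwg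
  have hc : ∀ {u y : G}, Commute u g → y ∈ zpowers w → Commute u y := fun hu hy => by
    obtain ⟨i, rfl⟩ := Subgroup.mem_zpowers_iff.1 (hzp hy)
    exact hu.zpow_right i
  have ho : ∀ {u : G}, IsConj z u → orderOf u = 2 := fun hu => by
    obtain ⟨c, rfl⟩ := isConj_iff.1 hu
    rw [orderOf_conj', hz]
  have hsq : ∀ {u : G}, IsConj z u → u * u = 1 := fun hu => by rw [← pow_two, ← ho hu, pow_orderOf_eq_one]
  rw [← hw, ← Nat.card_zpowers, ← Nat.card_prod]
  refine Nat.card_le_card_of_injective (fun p => ⟨p.1.1 * z * p.2.1, ?_, ?_⟩) ?_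
  · refine Q.mul_mem (H _ (hc p.1.2.2 (Subgroup.mem_zpowers w)).eq (hsq p.1.2.1) fun h => ?_)
      (Subgroup.zpowers_le.2 hwQ p.2.2)
    have h1 := ho p.1.2.1
    rw [h, orderOf_one] at h1
    norm_num at h1
  · exact mem_centralizer_singleton_iff.2 ((((show Commute p.1.1 g from p.1.2.2).mul_left
      (show Commute z g from hzg.symm)).mul_left (hc (Commute.refl g) p.2.2).symm).pow_right b).eq
  · rintro ⟨⟨u, hu, hug⟩, ⟨y, hy⟩⟩ ⟨⟨u', hu', hug'⟩, ⟨y', hy'⟩⟩ h
    have h1 : u * z * y = u' * z * y' := congrArg Subtype.val h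
    have hd : y' * y⁻¹ ∈ zpowers w := Subgroup.mul_mem _ hy' (Subgroup.inv_mem _ hy)
    have h2 : u = u' * (y' * y⁻¹) := by
      have h3 := (hc (show Commute z g from hzg.symm) hd).eq
      calc u = (u * z * y) * y⁻¹ * z⁻¹ := by group
        _ = u' * (z * (y' * y⁻¹)) * z⁻¹ := by rw [h1]; group
        _ = _ := by rw [h3]; group
    have h3 : (y' * y⁻¹) ^ 2 = 1 := by
      have h4 := hsq hu
      rw [h2, ← pow_two, (hc (show Commute u' g from hug') hd).mul_pow, pow_two u', hsq hu', one_mul] at h4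
      exact h4
    have h4 : orderOf (y' * y⁻¹) ∣ 7 := by
      rw [← hw, ← Nat.card_zpowers w]
      exact Subgroup.orderOf_dvd_natCard _ hd
    have h5 : y' * y⁻¹ = 1 :=
      orderOf_eq_one_iff.1 (Nat.eq_one_of_dvd_coprimes (by norm_num) h4 (orderOf_dvd_of_pow_eq_one h3))
    rw [h5, mul_one] at h2
    exact Prod.ext (Subtype.ext h2) (Subtype.ext (mul_inv_eq_one.1 h5).symm)

theorem count_conj (z g c : G) : Nat.card {u : G // IsConj z u ∧ u * (c * g * c⁻¹) = (c * g * c⁻¹) * u} ≤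
    Nat.card {u : G // IsConj z u ∧ u * g = g * u} := by
  refine Nat.card_le_card_of_injective (fun u => ⟨c⁻¹ * u.1 * c⁻¹⁻¹, u.2.1.trans (isConj_iff.2 ⟨c⁻¹, rfl⟩), ?_⟩) ?_
  · calc c⁻¹ * u.1 * c⁻¹⁻¹ * g = c⁻¹ * (u.1 * (c * g * c⁻¹)) * c := by group
      _ = c⁻¹ * ((c * g * c⁻¹) * u.1) * c := by rw [u.2.2]
      _ = _ := by group
  · intro a b hab
    have h1 : c⁻¹ * a.1 * c⁻¹⁻¹ = c⁻¹ * b.1 * c⁻¹⁻¹ := congrArg Subtype.val hab
    exact Subtype.ext (by simpa using h1)

omit [Finite G] in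
theorem le_pow_abs {Q C : Subgroup G} {n j : ℕ} (hQ : Nat.card Q = 7 ^ 5) (hj : ¬ 7 ^ (j + 2) ∣ Nat.card C)
    (h : n * 7 ≤ Nat.card ↥(Q ⊓ C)) : n ≤ 7 ^ j := by
  have h1 : Nat.card ↥(Q ⊓ C) ∣ 7 ^ 5 := hQ ▸ Subgroup.card_dvd_of_le inf_le_left
  obtain ⟨k, -, hk⟩ := (Nat.dvd_prime_pow prime7).1 h1
  have h2 : k ≤ j + 1 := by
    by_contra h3
    exact hj ((pow_dvd_pow 7 (by omega)).trans (hk ▸ Subgroup.card_dvd_of_le inf_le_right))
  have h3 : 7 ^ k ≤ 7 ^ j * 7 := by rw [← pow_succ]; exact Nat.pow_le_pow_right (by norm_num) h2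
  omega

end abs

/-- **the conjugates of `z` commuting with an element whose power is in the class `7B`** -/
theorem cnt_le (hC : Cover) (hN : CountC) {g : MG} (hg : g * zz = zz * g) {a : ℕ} (b j : ℕ) (h7 : orderOf (g ^ a) = 7)
    (h2 : ch (g ^ a) = 2) (hj : ¬ 7 ^ (j + 2) ∣ Nat.card (centralizer ({g ^ b} : Set MG))) :
    Nat.card {u : MG // IsConj zz u ∧ u * g = g * u} ≤ 7 ^ j := by
  have := finite
  obtain ⟨w, Q, hw, hfr, hQ, hc, -⟩ := H537.TC.exists_D7
  obtain ⟨c, hcz, hcw⟩ := conj_seven hC hN hw hfr ((show Commute g zz from hg).pow_left a).eq h7 h2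
  obtain ⟨g', rfl⟩ : ∃ g', g = c * g' * c⁻¹ := ⟨c⁻¹ * g * c, by group⟩
  have hwo : orderOf (w : MG) = 7 := by rw [Subgroup.orderOf_coe, hw]
  have h1 : g' ^ a = w := by
    rw [conj_pow] at hcw
    simpa using hcw.symm
  have h3 : g' * zz = zz * g' := by
    have h4 := ((show Commute c zz from hcz).inv_left.mul_left (show Commute _ zz from hg)).mul_left
      (show Commute c zz from hcz)
    have h5 : c⁻¹ * (c * g' * c⁻¹) * c = g' := by group
    rw [h5] at h4
    exact h4.eq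
  rw [conj_pow, M5.card_cent_conj (isConj_iff.2 ⟨c, rfl⟩)] at hj
  refine (count_conj zz g' c).trans (le_pow_abs hQ.card hj (count_abs b hwo
    (by rw [← h1]; exact Subgroup.npow_mem_zpowers _ _) hQ.mem h3 orderOf_zz fun u hu huu hu1 => ?_))
  refine mul_mem_abs hwo (comm_coe w).symm hQ.le hQ.norm hQ.card hc (inf_seven hw hfr)
    (H609.Inv.Seven.free_chart chart hQ hw hfr) (fun t h4 h5 h6 => ?_) hu huu hu1
  by_cases h8 : t = 1
  · exact Or.inl h8
  · exact Or.inr (PreUniq.MonSeven.only_inv KDone.lft LThreeB.Row.cent (x := w)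
      (t := ⟨t, mem_centralizer_singleton_iff.2 h5⟩) (by rw [← hw, pow_orderOf_eq_one]) hfr (Subtype.ext h6)
      (fun h => h8 (congrArg Subtype.val h)) (Subtype.ext h4.symm))

theorem boxC_7B (hC : Cover) (hN : CountC) : BoxCM 19 := by
  obtain ⟨w, Q, hw, hfr, -, hc, -⟩ := H537.TC.exists_D7
  refine boxC_of (g := w) ((tyM_iff' sg_7B _).2 ⟨by rw [Subgroup.orderOf_coe, hw], ?_⟩) hc (by rw [cnt_7B]; norm_num)
  simp only [List.mem_cons, List.not_mem_nil, or_false, forall_eq, pow_one]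
  exact ch_seven_zero hC hN hw hfr

theorem row_21B : rowN 66 = (21, [(1, -1), (3, 2), (7, 783)], 1107236818462986731520000) := by decide +kernel
theorem row_21D : rowN 68 = (21, [(1, 5), (3, 2), (7, 54)], 276809204615746682880000) := by decide +kernel
theorem row_35B : rowN 97 = (35, [(1, 2), (5, 2), (7, 9)], 1993026273233376116736000) := by decide +kernel

theorem box_21B (hC : Cover) (hN : CountC) : BoxM 70 := by
  have := finite
  refine box_row hN (m := 7 ^ 2) (by norm_num) row_21B sg_21B (fun g hg ho hv => ?_) (by norm_num) (by decide +kernel)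
  simp only [List.mem_cons, List.not_mem_nil, or_false, forall_eq_or_imp, forall_eq] at hv
  refine cnt_le hC hN hg 7 2 (ord_pow ho 3) hv.2.1 ?_
  rcases three_id hC hN ((show Commute g zz from hg).pow_left 7).eq (ord_pow ho 7) with ⟨-, h⟩ | ⟨-, h, -⟩ | ⟨-, h, -⟩
  · exact fun h1 => absurd (h1.trans h) (by norm_num)
  · rw [h]; norm_num
  · rw [h]; norm_num

theorem box_21D (hC : Cover) (hN : CountC) : BoxM 72 := by
  have := finite
  refine box_row hN (m := 7 ^ 0) (by norm_num) row_21D sg_21D (fun g hg ho hv => ?_) (by norm_num) (by decide +kernel)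
  simp only [List.mem_cons, List.not_mem_nil, or_false, forall_eq_or_imp, forall_eq] at hv
  refine cnt_le hC hN hg 7 0 (ord_pow ho 3) hv.2.1 ?_
  rcases three_id hC hN ((show Commute g zz from hg).pow_left 7).eq (ord_pow ho 7) with ⟨-, h⟩ | ⟨h, -⟩ | ⟨h, -⟩
  · exact fun h1 => absurd (h1.trans h) (by norm_num)
  · rw [hv.2.2] at h
    norm_num at h
  · rw [hv.2.2] at h
    norm_num at h

theorem box_35B (hC : Cover) (hN : CountC) : BoxM 109 := by
  have := finite
  refine box_row hN (m := 7 ^ 0) (by norm_num) row_35B sg_35B (fun g hg ho hv => ?_) (by norm_num) (by decide +kernel)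
  simp only [List.mem_cons, List.not_mem_nil, or_false, forall_eq_or_imp, forall_eq] at hv
  refine cnt_le hC hN hg 7 0 (ord_pow ho 5) hv.2.1 ?_
  rcases H58.MonFiveB.five (ord_pow ho 7) (ev_of_comm ((show Commute g zz from hg).pow_left 7).eq) with h | h
  · rw [h]; norm_num
  · exact fun h1 => absurd (h1.trans h) (by norm_num)

/-- **The fourteen boxes.** -/
theorem boxes (hC : Cover) (hN : CountC) :
    ∀ i ∈ [18, 19, 46, 69, 70, 71, 72, 90, 108, 109, 122, 153, 158, 168], BoxM i := by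
  simp only [List.mem_cons, List.not_mem_nil, or_false, forall_eq_or_imp, forall_eq]
  exact ⟨(boxC_7A hC hN).box, (boxC_7B hC hN).box, (boxC_14A hC hN).box, (boxC_21A hC hN).box, box_21B hC hN,
    (boxC_21C hC hN).box, box_21D hC hN, (boxC_28A hC hN).box, (boxC_35A hC hN).box, box_35B hC hN,
    (boxC_42A hC hN).box, (boxC_70A hC hN).box, (boxC_84A hC hN).box, (boxC_105A hC hN).box⟩

end Cfsg.Agent.TAB.M7
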