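import Cfsg.Agent.TAB.M.Key
import Cfsg.Agent.TAB.C2B.Defs
import Cfsg.Agent.TAB.Eng.Fib
import Cfsg.Agent.Blocks.AvgTrace
import Cfsg.Agent.CharactersDeep.ColumnBessel
import Cfsg.Agent.J3Type.CharTools
import Cfsg.Agent.H199.NSmMon

/-!
# Tools for the types of the elements of the Monster (helper46, TAB)

`ch g` is the trace on the space of dimension 196884, as an integer.
-/

set_option autoImplicit false
set_option maxRecDepth 100000

namespace Cfsg.Agent.TAB.M7

open Cfsg Cfsg.Agent.TAB.Eng Cfsg.Agent.TAB.M Cfsg.Agent.TAB.C2B Cfsg.Agent.BpSpor.MBigModel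
open Cfsg.Agent.MonsterX.Space (V)
open Cfsg.Agent.LThreeMBTr (chr)
open Cfsg.Agent.H199.NSmMon (Ev)
open Subgroup (centralizer zpowers mem_centralizer_singleton_iff)

theorem tV_eq (g : MG) : tV g = chr V g := rfl

theorem int_of_integral {q : ℚ} (h : IsIntegral ℤ (q : ℂ)) : ∃ n : ℤ, q = n := by
  have h1 : IsIntegral ℤ q :=
    (isIntegral_algebraMap_iff (R := ℤ) (A := ℚ) (B := ℂ) (algebraMap ℚ ℂ).injective).1 (by simpa using h)
  obtain ⟨n, hn⟩ := IsIntegrallyClosed.isIntegral_iff.1 h1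
  exact ⟨n, by simpa using hn.symm⟩

theorem exists_int (g : MG) : ∃ n : ℤ, chr V g = n := by
  have := finite
  exact int_of_integral (Characters.GaloisBasic.isIntegral_apply isChar g)

/-- the trace on the space of dimension 196884 -/
noncomputable def ch (g : MG) : ℤ := (exists_int g).choose

theorem chr_eq_ch (g : MG) : chr V g = ch g := (exists_int g).choose_spec

theorem tV_eq_ch (g : MG) : tV g = ch g := chr_eq_ch g

theorem ch_of_chr {g : MG} {a : ℤ} (h : chr V g = a) : ch g = a := by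
  rw [chr_eq_ch] at h
  exact_mod_cast h

theorem chr_iff {g : MG} {a : ℤ} : chr V g = a ↔ ch g = a :=
  ⟨ch_of_chr, fun h => by rw [chr_eq_ch, h]⟩

theorem ch_conj (h g : MG) : ch (h * g * h⁻¹) = ch g := by
  apply ch_of_chr
  rw [LThreeMBTr.chr_conj, chr_eq_ch]

theorem ch_isConj {g h : MG} (e : IsConj g h) : ch g = ch h := by
  obtain ⟨c, rfl⟩ := isConj_iff.1 e
  rw [ch_conj]

theorem ch_gal {g : MG} {k : ℕ} (hk : Nat.Coprime k (orderOf g)) : ch (g ^ k) = ch g :=
  ch_of_chr (key.gal g k (ch g) hk (chr_eq_ch g))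

theorem ch_one : ch 1 = 196884 := by
  have h1 : ((tV 1 : ℚ) : ℂ) = 196884 := by rw [← trV_tV, H875.M23.TraceChar.trV_one]
  rw [tV_eq_ch] at h1
  exact_mod_cast h1

/-- generators of the same cyclic group -/
theorem ch_of_zpowers {g h : MG} (h1 : h ∈ zpowers g) (h2 : orderOf h = orderOf g) : ch h = ch g := by
  have := finite
  obtain ⟨k, rfl⟩ := (mem_powers_iff_mem_zpowers.2 h1 : h ∈ Submonoid.powers g)
  apply ch_gal
  have h3 : orderOf (g ^ k) = orderOf g := h2
  rw [orderOf_pow, Nat.div_eq_self] at h3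
  rcases h3 with h3 | h3
  · exact absurd h3 (orderOf_pos g).ne'
  · exact Nat.Coprime.symm h3

theorem ch_pow_prime (g : MG) {p : ℕ} (hp : p.Prime) : (p : ℤ) ∣ ch g - ch (g ^ p) := by
  have := finite
  refine J3Type.CharTools.int_congr isChar g hp ?_ ?_
  · rw [chr_eq_ch]; rfl
  · rw [chr_eq_ch]; rfl

theorem ch_avg (P : Subgroup MG) [Fintype P] (x : MG) (hx : ∀ u ∈ P, Commute x u) :
    (Nat.card P : ℤ) ∣ ∑ u : P, ch (x * u) := by
  have := finite
  have h1 := Blocks.AvgTrace.isIntegral_avg isChar P x hx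
  have h2 : ((Nat.card P : ℂ)⁻¹ * ∑ u : P, ((chr V (x * u) : ℚ) : ℂ)) =
      (((Nat.card P : ℚ)⁻¹ * ((∑ u : P, ch (x * u) : ℤ) : ℚ) : ℚ) : ℂ) := by
    simp only [chr_eq_ch]
    push_cast
    rfl
  rw [h2] at h1
  obtain ⟨n, hn⟩ := int_of_integral h1
  have h3 : (Nat.card P : ℚ) ≠ 0 := by exact_mod_cast (Nat.card_pos (α := P)).ne'
  refine ⟨n, ?_⟩
  have h4 : ((∑ u : P, ch (x * u) : ℤ) : ℚ) = (Nat.card P : ℚ) * n := by
    rw [← hn, mul_inv_cancel_left₀ h3]
  exact_mod_cast h4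

/-- the average over a cyclic group -/
theorem ch_avg_cyc {x y : MG} (h : Commute x y) :
    (orderOf y : ℤ) ∣ ∑ i ∈ Finset.range (orderOf y), ch (x * y ^ i) := by
  classical
  have := finite
  have := Fintype.ofFinite (zpowers y)
  have h1 := ch_avg (zpowers y) x (fun u hu => by
    obtain ⟨i, rfl⟩ := Subgroup.mem_zpowers_iff.1 hu
    exact h.zpow_right i)
  rw [Nat.card_zpowers] at h1
  have h2 : ∑ u : zpowers y, ch (x * u) = ∑ i ∈ Finset.range (orderOf y), ch (x * y ^ i) := by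
    rw [Finset.sum_range]
    symm
    refine Fintype.sum_equiv (finEquivZPowers (isOfFinOrder_of_finite y)) _ _ fun i => ?_
    rw [finEquivZPowers_apply]
  rwa [h2] at h1

theorem ch_bound (g : MG) : 1 + (ch g - 1) ^ 2 ≤ (Nat.card (centralizer ({g} : Set MG)) : ℤ) := by
  classical
  have := finite
  obtain ⟨χ, h, h1⟩ := H894.SB.Link.exists_irr
  let e : IrrCharacter MG := ⟨1, Characters.Core.isIrr_one⟩
  have hne : e ≠ χ := by
    intro h2
    rw [← h2] at h1
    have h3 : (1 : ℂ) = 196883 := h1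
    norm_num at h3
  have h2 := CharactersDeep.ColumnBessel.sum_norm_sq_le {e, χ} g
  rw [Finset.sum_pair hne, h g, chr_eq_ch] at h2
  have h3 : ‖(e : MG → ℂ) g‖ = 1 := by
    show ‖(1 : ℂ)‖ = 1
    exact norm_one
  have h4 : ‖(((ch g : ℤ) : ℚ) : ℂ) - 1‖ ^ 2 = (((ch g - 1) ^ 2 : ℤ) : ℝ) := by
    have h5 : (((ch g : ℤ) : ℚ) : ℂ) - 1 = ((ch g - 1 : ℤ) : ℂ) := by push_cast; rfl
    rw [h5, Complex.norm_intCast, sq_abs]
    push_cast
    rfl
  rw [h3, h4, one_pow] at h2
  exact_mod_cast h2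

theorem ch_bound' {g : MG} {c : ℕ} (h : Nat.card (centralizer ({g} : Set MG)) ≤ c) : 1 + (ch g - 1) ^ 2 ≤ (c : ℤ) :=
  (ch_bound g).trans (by exact_mod_cast h)

/-! ### Types -/

theorem hasTy_iff {g : MG} {t : TyD} : HasTy g t ↔ orderOf g = t.ord ∧ ∀ p ∈ t.val, ch (g ^ p.1) = p.2 := by
  unfold HasTy
  simp only [tV_eq, chr_iff]

theorem tyM_iff' {i o : ℕ} {l : List (ℕ × ℤ)} (h : sg dat val i = (o, l)) (g : MG) :
    TyM i g ↔ orderOf g = o ∧ ∀ p ∈ l, ch (g ^ p.1) = p.2 := by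
  rw [tyM_iff h]
  simp only [chr_iff]

theorem tyM_hasTy {i : ℕ} {t : TyD} (h : sg dat val i = (t.ord, t.val)) (g : MG) : TyM i g ↔ HasTy g t := by
  rw [tyM_iff' h, hasTy_iff]

theorem ev_of_comm {g : MG} (h : g * zz = zz * g) : Ev g := ⟨1, by rw [one_mul, inv_one, mul_one, h]⟩

theorem ev_iff {g : MG} : Ev g ↔ ∃ c : MG, (c * g * c⁻¹) * zz = zz * (c * g * c⁻¹) := by
  constructor
  · rintro ⟨c, hc⟩
    refine ⟨c⁻¹, ?_⟩
    calc c⁻¹ * g * c⁻¹⁻¹ * zz = c⁻¹ * (g * (c * zz * c⁻¹)) * c := by group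
      _ = c⁻¹ * ((c * zz * c⁻¹) * g) * c := by rw [hc]
      _ = _ := by group
  · rintro ⟨c, hc⟩
    have h1 := (ev_of_comm hc).conj c⁻¹
    have h2 : c⁻¹ * (c * g * c⁻¹) * c⁻¹⁻¹ = g := by group
    rwa [h2] at h1

theorem ev_ty (hC : Cover) {g : MG} (h : Ev g) : ∃ t ∈ TT, HasTy g t := by
  obtain ⟨c, hc⟩ := ev_iff.1 h
  obtain ⟨t, ht, h1⟩ := hC _ hc
  refine ⟨t, ht, ?_⟩
  have h2 := h1.conj c⁻¹
  have h3 : c⁻¹ * (c * g * c⁻¹) * c⁻¹⁻¹ = g := by group
  rwa [h3] at h2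

/-- the values of the types of order `n` -/
def vals (n : ℕ) : List (List (ℕ × ℤ)) := (TT.filter fun t => t.ord == n).map TyD.val

theorem ev_vals (hC : Cover) {g : MG} (h : Ev g) {n : ℕ} (hn : orderOf g = n) {L : List (List (ℕ × ℤ))}
    (hL : vals n = L) : ∃ l ∈ L, ∀ p ∈ l, ch (g ^ p.1) = p.2 := by
  obtain ⟨t, ht, h1⟩ := ev_ty hC h
  obtain ⟨h2, h3⟩ := hasTy_iff.1 h1
  refine ⟨t.val, ?_, h3⟩
  rw [← hL]
  exact List.mem_map.2 ⟨t, List.mem_filter.2 ⟨ht, by rw [← h2, hn]; exact beq_self_eq_true n⟩, rfl⟩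

theorem vals2 : vals 2 = [[(1, 276)], [(1, 4372)]] := by decide +kernel
theorem vals3 : vals 3 = [[(1, 0)], [(1, 54)], [(1, 783)]] := by decide +kernel
theorem vals5 : vals 5 = [[(1, 9)], [(1, 134)]] := by decide +kernel
theorem vals7 : vals 7 = [[(1, 2)], [(1, 51)]] := by decide +kernel

theorem ev_two (hC : Cover) {g : MG} (h : Ev g) (hn : orderOf g = 2) : ch g = 276 ∨ ch g = 4372 := by
  simpa using ev_vals hC h hn vals2

theorem ev_three (hC : Cover) {g : MG} (h : Ev g) (hn : orderOf g = 3) : ch g = 0 ∨ ch g = 54 ∨ ch g = 783 := by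
  simpa using ev_vals hC h hn vals3

theorem ev_five (hC : Cover) {g : MG} (h : Ev g) (hn : orderOf g = 5) : ch g = 9 ∨ ch g = 134 := by
  simpa using ev_vals hC h hn vals5

theorem ev_seven (hC : Cover) {g : MG} (h : Ev g) (hn : orderOf g = 7) : ch g = 2 ∨ ch g = 51 := by
  simpa using ev_vals hC h hn vals7

/-! ### Counting in `C(z)` -/

/-- the order of `C(z)` -/
abbrev NC : ℕ := 2 ^ 25 * 4157776806543360000

/-- an element of each type -/
theorem exists_ty (hN : CountC) {t : TyD} (ht : t ∈ TT) (h : t.nz + t.no ≠ 0) :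
    ∃ g : MG, g * zz = zz * g ∧ HasTy g t := by
  have h1 := hN t ht
  rw [← h1] at h
  obtain ⟨⟨g, hg⟩⟩ := (Nat.card_ne_zero.1 h).1
  exact ⟨g, hg⟩

/-- the class in `C(z)` -/
theorem card_classC {g : MG} (hg : g * zz = zz * g) :
    Nat.card {y : MG // ∃ c : MG, c * zz = zz * c ∧ c * g * c⁻¹ = y} *
      Nat.card ↥(centralizer ({zz} : Set MG) ⊓ centralizer ({g} : Set MG)) = NC := by
  have := finite
  let g' : centralizer ({zz} : Set MG) := ⟨g, mem_centralizer_singleton_iff.2 hg⟩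
  have h1 := card_class g'
  rw [card_cent_z] at h1
  rw [NC, ← h1]
  congr 1
  · symm
    refine Nat.card_congr (Equiv.ofBijective (fun y => ⟨y.1.1, ?_⟩) ⟨?_, ?_⟩)
    · obtain ⟨c, hc⟩ := isConj_iff.1 y.2
      exact ⟨c, mem_centralizer_singleton_iff.1 c.2, congrArg Subtype.val hc⟩
    · intro a b hab
      exact Subtype.ext (Subtype.ext (congrArg Subtype.val hab :))
    · rintro ⟨y, c, hc, rfl⟩
      let c' : centralizer ({zz} : Set MG) := ⟨c, mem_centralizer_singleton_iff.2 hc⟩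
      exact ⟨⟨c' * g' * c'⁻¹, isConj_iff.2 ⟨c', rfl⟩⟩, rfl⟩
  · refine Nat.card_congr (Equiv.ofBijective (fun y => ⟨⟨y.1, y.2.1⟩, mem_centralizer_singleton_iff.2
      (Subtype.ext (mem_centralizer_singleton_iff.1 y.2.2))⟩) ⟨?_, ?_⟩)
    · intro a b hab
      exact Subtype.ext (congrArg (fun u : centralizer ({g'} : Set (centralizer ({zz} : Set MG))) => (u.1 : MG)) hab)
    · rintro ⟨y, hy⟩
      exact ⟨⟨y.1, y.2, mem_centralizer_singleton_iff.2
        (congrArg Subtype.val (mem_centralizer_singleton_iff.1 hy))⟩, rfl⟩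

theorem conj_comm_zz {c g : MG} (hc : c * zz = zz * c) (hg : g * zz = zz * g) :
    (c * g * c⁻¹) * zz = zz * (c * g * c⁻¹) :=
  (((show Commute c zz from hc).mul_left (show Commute g zz from hg)).mul_left
    (show Commute c zz from hc).inv_left).eq

/-- the class in `C(z)` is contained in the type -/
theorem count_le (hN : CountC) {t : TyD} (ht : t ∈ TT) {g : MG} (hg : g * zz = zz * g) (h : HasTy g t) :
    NC ≤ (t.nz + t.no) * Nat.card ↥(centralizer ({zz} : Set MG) ⊓ centralizer ({g} : Set MG)) := by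
  have := finite
  rw [← card_classC hg, ← hN t ht]
  refine Nat.mul_le_mul_right _ (Nat.card_le_card_of_injective (fun y => ⟨y.1, ?_⟩) ?_)
  · obtain ⟨c, hc, h1⟩ := y.2
    rw [← h1]
    exact ⟨conj_comm_zz hc hg, h.conj c⟩
  · intro a b hab
    exact Subtype.ext (congrArg Subtype.val hab :)

/-- a class in `C(z)` that fills its type -/
theorem conj_of_count (hN : CountC) {t : TyD} (ht : t ∈ TT) {g : MG} (hg : g * zz = zz * g) (h : HasTy g t)
    (hc : (t.nz + t.no) * Nat.card ↥(centralizer ({zz} : Set MG) ⊓ centralizer ({g} : Set MG)) ≤ NC)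
    {y : MG} (hy : y * zz = zz * y) (h' : HasTy y t) : ∃ c : MG, c * zz = zz * c ∧ c * g * c⁻¹ = y := by
  have := finite
  let f : {y : MG // ∃ c : MG, c * zz = zz * c ∧ c * g * c⁻¹ = y} → {g : MG // g * zz = zz * g ∧ HasTy g t} :=
    fun y => ⟨y.1, by
      obtain ⟨c, hc, h1⟩ := y.2
      rw [← h1]
      exact ⟨conj_comm_zz hc hg, h.conj c⟩⟩
  have hf : Function.Injective f := fun a b hab => Subtype.ext (congrArg Subtype.val hab :)
  have h1 : Nat.card {g : MG // g * zz = zz * g ∧ HasTy g t} ≤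
      Nat.card {y : MG // ∃ c : MG, c * zz = zz * c ∧ c * g * c⁻¹ = y} := by
    rw [← card_classC hg, ← hN t ht] at hc
    exact Nat.le_of_mul_le_mul_right hc Nat.card_pos
  have h2 := (Nat.bijective_iff_injective_and_card f).2
    ⟨hf, le_antisymm (Nat.card_le_card_of_injective f hf) h1⟩
  obtain ⟨a, ha⟩ := h2.2 ⟨y, hy, h'⟩
  have h3 : a.1 = y := congrArg Subtype.val ha
  exact h3 ▸ a.2

/-- **a box from the count in `C(z)`** : every element of the type commutes with at most `m` conjugates of `z`. -/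
theorem box_of_pairs (hN : CountC) {i m : ℕ} {t : TyD} (ht : t ∈ TT) (hi : sg dat val i = (t.ord, t.val))
    (hm : ∀ g : MG, g * zz = zz * g → HasTy g t → Nat.card {u : MG // IsConj zz u ∧ u * g = g * u} ≤ m)
    (hm0 : 0 < m) (h : dat.cnt i * m ≤ dat.N / NC * (t.nz + t.no)) : BoxM i := by
  classical
  have := finite
  have := Fintype.ofFinite MG
  -- the pairs
  let S : Finset MG := Finset.univ.filter fun g => HasTy g t
  let Z : Finset MG := Finset.univ.filter fun u => IsConj zz u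
  have hZ : dat.N / NC ≤ Z.card := by
    have h1 := div_le_class (z := zz) (e := NC) card_cent_z.le
    rw [card_M, Nat.card_eq_fintype_card, Fintype.card_subtype] at h1
    exact h1
  have h1 : ∀ u ∈ Z, (S.filter fun g => u * g = g * u).card = t.nz + t.no := by
    intro u hu
    obtain ⟨c, rfl⟩ := isConj_iff.1 (Finset.mem_filter.1 hu).2
    rw [← hN t ht, Nat.card_eq_fintype_card, Fintype.card_subtype]
    symm
    refine Finset.card_bij (fun g _ => c * g * c⁻¹) ?_ ?_ ?_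
    · intro g hg
      obtain ⟨h2, h3⟩ := (Finset.mem_filter.1 hg).2
      refine Finset.mem_filter.2 ⟨Finset.mem_filter.2 ⟨Finset.mem_univ _, h3.conj c⟩, ?_⟩
      calc c * zz * c⁻¹ * (c * g * c⁻¹) = c * (zz * g) * c⁻¹ := by group
        _ = c * (g * zz) * c⁻¹ := by rw [h2]
        _ = _ := by group
    · intro a _ b _ hab
      simpa using hab
    · intro g hg
      obtain ⟨h2, h3⟩ := Finset.mem_filter.1 hg
      refine ⟨c⁻¹ * g * c⁻¹⁻¹, Finset.mem_filter.2 ⟨Finset.mem_univ _, ?_, (Finset.mem_filter.1 h2).2.conj c⁻¹⟩,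
        by group⟩
      calc c⁻¹ * g * c⁻¹⁻¹ * zz = c⁻¹ * (g * (c * zz * c⁻¹)) * c := by group
        _ = c⁻¹ * ((c * zz * c⁻¹) * g) * c := by rw [h3]
        _ = _ := by group
  have h2 : ∀ g ∈ S, (Z.filter fun u => u * g = g * u).card ≤ m := by
    intro g hg
    rcases (Z.filter fun u => u * g = g * u).eq_empty_or_nonempty with h3 | ⟨u, hu⟩
    · rw [h3]
      exact Nat.zero_le _
    · obtain ⟨h3, h4⟩ := Finset.mem_filter.1 hu
      obtain ⟨c, rfl⟩ := isConj_iff.1 (Finset.mem_filter.1 h3).2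
      have h5 : c⁻¹ * g * c⁻¹⁻¹ * zz = zz * (c⁻¹ * g * c⁻¹⁻¹) := by
        calc c⁻¹ * g * c⁻¹⁻¹ * zz = c⁻¹ * (g * (c * zz * c⁻¹)) * c := by group
          _ = c⁻¹ * ((c * zz * c⁻¹) * g) * c := by rw [h4]
          _ = _ := by group
      refine le_trans ?_ (hm _ h5 ((Finset.mem_filter.1 hg).2.conj c⁻¹))
      rw [Nat.card_eq_fintype_card, Fintype.card_subtype]
      refine Finset.card_le_card_of_injOn (fun v => c⁻¹ * v * c⁻¹⁻¹) ?_ ?_
      · intro v hv
        obtain ⟨h6, h7⟩ := Finset.mem_filter.1 (Finset.mem_coe.1 hv)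
        refine Finset.mem_coe.2 (Finset.mem_filter.2 ⟨Finset.mem_univ _,
          (Finset.mem_filter.1 h6).2.trans (isConj_iff.2 ⟨c⁻¹, rfl⟩), ?_⟩)
        calc c⁻¹ * v * c⁻¹⁻¹ * (c⁻¹ * g * c⁻¹⁻¹) = c⁻¹ * (v * g) * c := by group
          _ = c⁻¹ * (g * v) * c := by rw [h7]
          _ = _ := by group
      · intro a _ b _ hab
        simpa using hab
  have h3 : Z.card * (t.nz + t.no) ≤ S.card * m := by
    have h4 := Finset.sum_card_bipartiteAbove_eq_sum_card_bipartiteBelow (s := Z) (t := S)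
      (fun u g => u * g = g * u)
    have h5 : ∑ u ∈ Z, (S.bipartiteAbove (fun u g => u * g = g * u) u).card = Z.card * (t.nz + t.no) := by
      rw [← smul_eq_mul, ← Finset.sum_const]
      exact Finset.sum_congr rfl h1
    have h6 : ∑ g ∈ S, (Z.bipartiteBelow (fun u g => u * g = g * u) g).card ≤ S.card * m := by
      have h7 := Finset.sum_le_card_nsmul S (fun g => (Z.bipartiteBelow (fun u g => u * g = g * u) g).card) m h2
      rwa [smul_eq_mul] at h7
    rw [← h5, h4]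
    exact h6
  have h4 : dat.cnt i ≤ S.card :=
    Nat.le_of_mul_le_mul_right (h.trans ((Nat.mul_le_mul_right _ hZ).trans h3)) hm0
  show dat.cnt i ≤ Nat.card {g : MG // TyM i g}
  rw [Nat.card_congr (Equiv.subtypeEquivRight fun g => tyM_hasTy hi g), Nat.card_eq_fintype_card,
    Fintype.card_subtype]
  exact h4

/-! ### Sylow 2-subgroups -/

/-- `C(y) ∩ C(z)` has odd index in `C(y)` : every 2-element of `C(y)` commutes with a `C(y)`-conjugate of `z`. -/
theorem exists_conj_of_odd {G : Type*} [Group G] [Finite G] {y z t : G} {k : ℕ}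
    (hodd : ¬ 2 ^ (k + 1) ∣ Nat.card ↥(centralizer ({y} : Set G)))
    (hk : 2 ^ k ∣ Nat.card ↥(centralizer ({z} : Set G) ⊓ centralizer ({y} : Set G)))
    (hty : t * y = y * t) {n : ℕ} (ht : t ^ 2 ^ n = 1) :
    ∃ c : G, c * y = y * c ∧ (c * t * c⁻¹) * z = z * (c * t * c⁻¹) := by
  have h2 : Fact (Nat.Prime 2) := ⟨Nat.prime_two⟩
  let D := centralizer ({y} : Set G)
  let E : Subgroup D := (centralizer ({z} : Set G) ⊓ D).subgroupOf D
  have hE : Nat.card E = Nat.card ↥(centralizer ({z} : Set G) ⊓ D) :=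
    Nat.card_congr (Subgroup.subgroupOfEquivOfLe inf_le_right).toEquiv
  obtain ⟨P⟩ : Nonempty (Sylow 2 E) := inferInstance
  have hP : 2 ^ k ∣ Nat.card ↥((P : Subgroup E).map E.subtype) := by
    rw [Subgroup.card_map_of_injective E.subtype_injective]
    exact P.pow_dvd_card_of_pow_dvd_card (hE ▸ hk)
  obtain ⟨S, hS⟩ := (P.isPGroup'.map E.subtype).exists_le_sylow
  have hSc : Nat.card (S : Subgroup D) ∣ 2 ^ k := by
    obtain ⟨j, hj⟩ := IsPGroup.iff_card.1 S.isPGroup'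
    rw [hj]
    refine pow_dvd_pow 2 ?_
    by_contra hcon
    refine hodd ((pow_dvd_pow 2 (by omega : k + 1 ≤ j)).trans ?_)
    rw [← hj]
    exact Subgroup.card_subgroup_dvd_card _
  have hPS : (P : Subgroup E).map E.subtype = S :=
    Subgroup.eq_of_le_of_card_ge hS (Nat.le_of_dvd Nat.card_pos (hSc.trans hP))
  let t' : D := ⟨t, mem_centralizer_singleton_iff.2 hty⟩
  have ht' : IsPGroup 2 (zpowers t') := by
    have h3 : orderOf t' ∣ 2 ^ n := orderOf_dvd_of_pow_eq_one (Subtype.ext ht)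
    obtain ⟨j, -, hj⟩ := (Nat.dvd_prime_pow Nat.prime_two).1 h3
    exact IsPGroup.of_card (by rw [Nat.card_zpowers, hj])
  obtain ⟨T, hT⟩ := ht'.exists_le_sylow
  obtain ⟨c, hc⟩ := MulAction.exists_smul_eq D T S
  have h3 : c * t' * c⁻¹ ∈ (S : Subgroup D) := by
    rw [← hc, Sylow.coe_subgroup_smul]
    exact Subgroup.smul_mem_pointwise_smul _ (MulAut.conj c) _ (hT (Subgroup.mem_zpowers t'))
  rw [← hPS] at h3
  have h4 : c * t' * c⁻¹ ∈ E := Subgroup.map_subtype_le _ h3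
  exact ⟨c, mem_centralizer_singleton_iff.1 c.2, mem_centralizer_singleton_iff.1 h4.1⟩

/-- the product of `y` with a 2-element of `C(y)` -/
theorem ev_of_sylow {y t : MG} (hy : y * zz = zz * y) {k : ℕ}
    (hodd : ¬ 2 ^ (k + 1) ∣ Nat.card ↥(centralizer ({y} : Set MG)))
    (hk : 2 ^ k ∣ Nat.card ↥(centralizer ({zz} : Set MG) ⊓ centralizer ({y} : Set MG)))
    (hty : t * y = y * t) {n : ℕ} (ht : t ^ 2 ^ n = 1) : Ev (y * t) := by
  have := finite
  obtain ⟨c, hc, h⟩ := exists_conj_of_odd hodd hk hty ht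
  refine ev_iff.2 ⟨c, ?_⟩
  have h1 : c * (y * t) * c⁻¹ = y * (c * t * c⁻¹) := by rw [← mul_assoc, hc]; group
  rw [h1]
  exact ((show Commute y zz from hy).mul_left (show Commute (c * t * c⁻¹) zz from h)).eq

/-- every 2-element commutes with a conjugate of `z` -/
theorem ev_of_two {t : MG} {n : ℕ} (ht : t ^ 2 ^ n = 1) : Ev t := by
  have h1 : centralizer ({1} : Set MG) = ⊤ := by
    rw [eq_top_iff]
    intro x _
    rw [mem_centralizer_singleton_iff, mul_one, one_mul]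
  have h := ev_of_sylow (y := 1) (t := t) (k := 46) (by rw [one_mul, mul_one])
    (by rw [h1, Subgroup.card_top, card_M]; norm_num) (by rw [h1, inf_top_eq, card_cent_z]; norm_num)
    (by rw [one_mul, mul_one]) ht
  rwa [one_mul] at h

end Cfsg.Agent.TAB.M7
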