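import Cfsg.Agent.TAB.M7.Tool
import Cfsg.Agent.H199.AbMon
import Cfsg.Agent.H537.TC.SevenA
import Cfsg.Agent.CTwoTab.Card

/-!
# The elements of order 3 and 7 of `C(z)` : traces and centralizers (helper46, TAB)
-/

set_option autoImplicit false
set_option maxRecDepth 100000

namespace Cfsg.Agent.TAB.M7

open Cfsg Cfsg.Agent.TAB.Eng Cfsg.Agent.TAB.M Cfsg.Agent.TAB.C2B
open Cfsg.Agent.MonsterX Cfsg.Agent.MonsterX.InstData Cfsg.Agent.MonsterX.MainPack Cfsg.Agent.MonsterU
open Cfsg.Agent.MonsterP Cfsg.Agent.MonsterN Cfsg.Agent.LThreeMB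
open Cfsg.Agent.MonsterU.Lam2
open Cfsg.Agent.BpSpor.MBigModel Cfsg.Agent.H199.NSmMon
open Cfsg.Spor (Co1)
open Subgroup (centralizer zpowers mem_centralizer_singleton_iff)

/-- the type number `i` -/
def tyN (i : ℕ) : TyD := TT.getD i ⟨0, [], 0, 0⟩

/-- order, values, number of elements in `C(z)` -/
def rowN (i : ℕ) : ℕ × List (ℕ × ℤ) × ℕ := ((tyN i).ord, (tyN i).val, (tyN i).nz + (tyN i).no)

theorem tyN_mem {i : ℕ} (hi : i < 129) : tyN i ∈ TT := by
  have h : i < TT.length := TT_length ▸ hi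
  rw [tyN, List.getD_eq_getElem _ _ h]
  exact List.getElem_mem h

theorem hasTy_row {i o n : ℕ} {l : List (ℕ × ℤ)} (h : rowN i = (o, l, n)) {g : MG} :
    HasTy g (tyN i) ↔ orderOf g = o ∧ ∀ p ∈ l, ch (g ^ p.1) = p.2 := by
  obtain ⟨h1, h2⟩ := Prod.mk.inj h
  obtain ⟨h2, -⟩ := Prod.mk.inj h2
  rw [hasTy_iff, h1, h2]

theorem cnt_row {i o n : ℕ} {l : List (ℕ × ℤ)} (h : rowN i = (o, l, n)) : (tyN i).nz + (tyN i).no = n :=
  (Prod.mk.inj (Prod.mk.inj h).2).2

theorem exists_row (hN : CountC) {i o n : ℕ} {l : List (ℕ × ℤ)} (hi : i < 129) (h : rowN i = (o, l, n)) (hn : n ≠ 0) :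
    ∃ g : MG, g * zz = zz * g ∧ orderOf g = o ∧ ∀ p ∈ l, ch (g ^ p.1) = p.2 := by
  obtain ⟨g, hg, h1⟩ := exists_ty hN (tyN_mem hi) (by rw [cnt_row h]; exact hn)
  exact ⟨g, hg, (hasTy_row h).1 h1⟩

theorem count_row (hN : CountC) {i o n : ℕ} {a : ℤ} (hi : i < 129) (h : rowN i = (o, [(1, a)], n)) {g : MG}
    (hg : g * zz = zz * g) (ho : orderOf g = o) (ha : ch g = a) :
    NC ≤ n * Nat.card ↥(centralizer ({zz} : Set MG) ⊓ centralizer ({g} : Set MG)) := by
  rw [← cnt_row h]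
  exact count_le hN (tyN_mem hi) hg ((hasTy_row h).2 ⟨ho, by simpa using ha⟩)

theorem box_row (hN : CountC) {i j o n m : ℕ} {l : List (ℕ × ℤ)} (hj : j < 129) (h : rowN j = (o, l, n))
    (hi : sg dat val i = (o, l))
    (hm : ∀ g : MG, g * zz = zz * g → orderOf g = o → (∀ p ∈ l, ch (g ^ p.1) = p.2) →
      Nat.card {u : MG // IsConj zz u ∧ u * g = g * u} ≤ m)
    (hm0 : 0 < m) (hc : dat.cnt i * m ≤ dat.N / NC * n) : BoxM i := by
  obtain ⟨h1, h2⟩ := Prod.mk.inj h
  obtain ⟨h2, h3⟩ := Prod.mk.inj h2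
  refine box_of_pairs hN (tyN_mem hj) (by rw [hi, h1, h2]) (fun g hg ht => ?_) hm0 (by rw [h3]; exact hc)
  obtain ⟨h4, h5⟩ := (hasTy_row h).1 ht
  exact hm g hg h4 h5

theorem row_3B : rowN 4 = (3, [(1, 54)], 86574514778931200) := by decide +kernel
theorem row_3A : rowN 5 = (3, [(1, 783)], 289696382976000) := by decide +kernel
theorem row_7B : rowN 18 = (7, [(1, 2)], 3954417208796381184000) := by decide +kernel
theorem row_7A : rowN 19 = (7, [(1, 51)], 926816533311651840000) := by decide +kernel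

theorem comm_coe (x : centralizer ({zz} : Set MG)) : (x : MG) * zz = zz * x := mem_centralizer_singleton_iff.1 x.2

/-- **the order of `C(z) ∩ C(x)`** -/
theorem card_inf {p : ℕ} (hp : p.Prime) (ho : Odd p) {x : centralizer ({zz} : Set MG)} (hx : orderOf x = p) :
    Nat.card ↥(centralizer ({zz} : Set MG) ⊓ centralizer ({(x : MG)} : Set MG)) =
      fr (pi x) * 2 * (p * Nat.card (XX (pi x))) := by
  have hfin := finite
  have hfc := BpSpor.MBigCo.finite_co1
  have hxp : x ^ p = 1 := by rw [← hx, pow_orderOf_eq_one]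
  have hs := MFive.be_surj chart hp ho hxp
  have h1 : Nat.card (be pi x).ker = fr (pi x) * 2 := by
    have h3 := MFive.card_pre chart ho hxp (⊤ : AddSubgroup L2)
    have h4 : Nat.card {v : L2 // v ∈ (⊤ : AddSubgroup L2) ∧ pi x • v = v} = fr (pi x) :=
      Nat.card_congr (Equiv.subtypeEquivRight fun v => ⟨fun h => h.2, fun h => ⟨AddSubgroup.mem_top v, h⟩⟩)
    rw [h4] at h3
    rw [← h3]
    refine Nat.card_congr (Equiv.ofBijective (fun d => ⟨(d.1 : MG), ⟨(be_eq_one chart).1 d.2, AddSubgroup.mem_top _⟩,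
      (CC_x d.1).symm⟩) ⟨?_, ?_⟩)
    · intro a b hab
      exact Subtype.ext (Subtype.ext (congrArg Subtype.val hab :))
    · rintro ⟨q, ⟨hq, hq'⟩, hqx⟩
      have hqz : q ∈ centralizer ({zz} : Set MG) := by
        obtain ⟨r, rfl⟩ := hq
        exact mem_centralizer_singleton_iff.2 (KDone.K.z_comm_K _ (KDone.K.ι_mem r))
      exact ⟨⟨⟨q, hqz, mem_centralizer_singleton_iff.2 hqx.symm⟩, (be_eq_one chart).2 hq⟩, rfl⟩
  rw [← h1, ← MFive.orderOf_pi chart hp ho hx, ← card_XX, ← Subgroup.card_mul_index (be pi x).ker,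
    Subgroup.index_ker, MonoidHom.range_eq_top.2 hs, Subgroup.card_top]

/-! ### Order 7 -/

theorem inf_seven {x : centralizer ({zz} : Set MG)} (hx : orderOf x = 7) (hfr : fr (pi x) = 1) :
    Nat.card ↥(centralizer ({zz} : Set MG) ⊓ centralizer ({(x : MG)} : Set MG)) = 35280 := by
  have h7 : Nat.Prime 7 := by norm_num
  rw [card_inf h7 (by decide) hx, hfr, (H961.SevX.xx_facts (MFive.orderOf_pi chart h7 (by decide) hx) hfr).2.2]

theorem ch_seven_zero (hC : Cover) (hN : CountC) {x : centralizer ({zz} : Set MG)} (hx : orderOf x = 7)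
    (hfr : fr (pi x) = 1) : ch (x : MG) = 2 := by
  have hxo : orderOf (x : MG) = 7 := by rw [Subgroup.orderOf_coe, hx]
  refine (ev_seven hC (ev_of_comm (comm_coe x)) hxo).resolve_right fun h => ?_
  have h1 := count_row hN (by norm_num) row_7A (comm_coe x) hxo h
  rw [inf_seven hx hfr] at h1
  norm_num [NC] at h1

/-- **the class `7A`** -/
theorem he_of (hC : Cover) (hN : CountC) {x : MG} (hx : x * zz = zz * x) (ho : orderOf x = 7) (h1 : ch x = 51) :
    Nonempty (XX x ≃* Spor.He) := by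
  let x' : centralizer ({zz} : Set MG) := ⟨x, mem_centralizer_singleton_iff.2 hx⟩
  have hx' : orderOf x' = 7 := by rw [← Subgroup.orderOf_coe]; exact ho
  rcases CpAutMSeven.Ranks.hranks (pi x') (MFive.orderOf_pi chart (by norm_num) (by decide) hx') with h2 | h2
  · have h3 : ch x = 2 := ch_seven_zero hC hN hx' h2
    rw [h1] at h3
    norm_num at h3
  · exact CpAutMSeven.ZeroComps.heSix x' hx' h2

/-- **the class `7B` in `C(z)`** -/
theorem conj_seven (hC : Cover) (hN : CountC) {w : centralizer ({zz} : Set MG)} (hw : orderOf w = 7)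
    (hfr : fr (pi w) = 1) {v : MG} (hv : v * zz = zz * v) (ho : orderOf v = 7) (h : ch v = 2) :
    ∃ c : MG, c * zz = zz * c ∧ c * w * c⁻¹ = v := by
  have hwo : orderOf (w : MG) = 7 := by rw [Subgroup.orderOf_coe, hw]
  refine conj_of_count hN (tyN_mem (i := 18) (by norm_num)) (comm_coe w)
    ((hasTy_row row_7B).2 ⟨hwo, by simpa using ch_seven_zero hC hN hw hfr⟩) ?_ hv
    ((hasTy_row row_7B).2 ⟨ho, by simpa using h⟩)
  rw [cnt_row row_7B, inf_seven hw hfr]
  norm_num [NC]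

/-! ### Order 3 -/

theorem vals6 : vals 6 = [[(1, -2), (2, 54), (3, 4372)], [(1, 0), (2, 0), (3, 276)], [(1, 6), (2, 54), (3, 276)],
    [(1, 15), (2, 783), (3, 276)], [(1, 78), (2, 54), (3, 276)], [(1, 79), (2, 783), (3, 4372)]] := by decide +kernel

theorem mul_zz_pow {x : MG} (hx : x * zz = zz * x) (k : ℕ) : (x * zz) ^ k = x ^ k * zz ^ k :=
  (show Commute x zz from hx).mul_pow k

theorem orderOf_mul_zz {x : MG} (hx : x * zz = zz * x) (ho : Odd (orderOf x)) : orderOf (x * zz) = orderOf x * 2 := by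
  rw [← orderOf_zz]
  refine (show Commute x zz from hx).orderOf_mul_eq_mul_orderOf_of_coprime ?_
  rw [orderOf_zz]
  exact ho.coprime_two_right

theorem zz_two : zz ^ 2 = 1 := by rw [pow_two, zz_sq]

theorem three_zero_aux (hC : Cover) {x : centralizer ({zz} : Set MG)} (hx : orderOf x = 3) (hfr : fr (pi x) = 1) :
    ch (x : MG) = 54 ∧ ch zz = 276 := by
  have hxo : orderOf (x : MG) = 3 := by rw [Subgroup.orderOf_coe, hx]
  have h3 : (x : MG) ^ 3 = 1 := by rw [← hxo, pow_orderOf_eq_one]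
  have hf := KPair.fpf KDone.lft LThreeB.Row.cent (x := x) (by rw [← hx, pow_orderOf_eq_one]) hfr
  have h1 : ch ((x : MG) * zz) = 78 := ch_of_chr (by
    have h2 := LThreeMBTr.chr_xz KDone.lft LThreeMBTr.TensK.tens (LThreeB.Row.cent _ (comm_coe x))
      (by rw [← h3, pow_succ, pow_two]) hf
    exact_mod_cast h2)
  have h2 : ((x : MG) * zz) * zz = zz * ((x : MG) * zz) := by rw [← mul_assoc, ← comm_coe x]
  have h4 := ev_vals hC (ev_of_comm h2) (n := 6) (by rw [orderOf_mul_zz (comm_coe x) (by rw [hxo]; decide), hxo]) vals6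
  have h5 : ch (((x : MG) * zz) ^ 2) = ch (x : MG) := by
    rw [mul_zz_pow (comm_coe x), zz_two, mul_one, ch_gal (by rw [hxo]; norm_num)]
  have h6 : ((x : MG) * zz) ^ 3 = zz := by
    rw [mul_zz_pow (comm_coe x), h3, one_mul, pow_succ, zz_two, one_mul]
  simp only [List.mem_cons, List.not_mem_nil, or_false, exists_eq_or_imp, exists_eq_left, forall_eq_or_imp,
    forall_eq, pow_one, h1, h5, h6] at h4
  omega

/-- the trace of `z` -/
theorem ch_zz (hC : Cover) : ch zz = 276 := by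
  obtain ⟨x₀, u, g, hx₀, hfr₀, -⟩ :=
    KPair.hasPair KDone.lft LThreeB.Row.cent PreUniq.MonRow.second COct.octPair
  exact (three_zero_aux hC hx₀ hfr₀).2

theorem three_low (hC : Cover) {x : centralizer ({zz} : Set MG)} (hx : orderOf x = 3)
    (hfr : fr (pi x) = 1 ∨ fr (pi x) = 2 ^ 6) :
    ch (x : MG) = 54 ∧ Nat.card ↥(centralizer ({(x : MG)} : Set MG)) ∣ 3 ^ 13 * (448345497600 * 2) := by
  have := finite
  have := simple
  have I := CoOneFin.coOne
  have htr := KPair.trNe KDone.lft LThreeB.Row.cent (LThreeMBTr.traceNe KDone.lft LThreeMBTr.TensK.tens)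
  rcases hfr with h1 | h1
  · exact ⟨(three_zero_aux hC hx h1).1, H199.AbMon.three_zero' hx h1⟩
  · obtain ⟨x₀, u, g, hx₀, hfr₀, huz, hux, hne, hg⟩ :=
      KPair.hasPair KDone.lft LThreeB.Row.cent PreUniq.MonRow.second COct.octPair
    obtain ⟨k, hk⟩ := conj_six chart htr I.ranks I.six
      (fun x hx h2 => ⟨(good_of_inputs chart I hx h2 : Good.{0} _).simple, (good_of_inputs chart I hx h2 : Good.{0} _).nc⟩)
      hx₀ hfr₀ huz hux hne hg hx h1
    refine ⟨?_, ?_⟩
    · rw [← ch_conj k, hk]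
      exact (three_zero_aux hC hx₀ hfr₀).1
    · rw [← BpSpor.card_cent_of_conj hk]
      exact H199.AbMon.three_zero' hx₀ hfr₀

theorem inf_three_eight {x : centralizer ({zz} : Set MG)} (hx : orderOf x = 3) (hfr : fr (pi x) = 2 ^ 8) :
    Nat.card ↥(centralizer ({zz} : Set MG) ⊓ centralizer ({(x : MG)} : Set MG)) = 278691840 := by
  obtain ⟨s, hs, hfs, ⟨e⟩, -⟩ := CoOneFin.coOne.nine
  obtain ⟨g, hg⟩ := CoOneFin.coOne.eight (pi x) s (orderOf_pi chart hx) hs hfr hfs
  obtain ⟨-, ⟨e'⟩⟩ := exists_XX_equiv hg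
  have h1 := LThreeCo1Twelve.Elim.card_alt 9 (by norm_num)
  have h2 : Nat.card ↥(alternatingGroup (Fin 9)) = 181440 := by
    have h3 : Nat.factorial 9 = 362880 := by norm_num [Nat.factorial]
    omega
  rw [card_inf Nat.prime_three (by decide) hx, hfr, Nat.card_congr (e'.trans e).toEquiv, h2]
  norm_num

theorem inf_three_twelve {x : centralizer ({zz} : Set MG)} (hx : orderOf x = 3) (hfr : fr (pi x) = 2 ^ 12) :
    Nat.card ↥(centralizer ({zz} : Set MG) ⊓ centralizer ({(x : MG)} : Set MG)) = 481579499520 := by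
  obtain ⟨s, hs, hfs, hT, -⟩ := CoOneFin.coOne.psu
  obtain ⟨g, hg⟩ := CoOneFin.coOne.twelve (pi x) s (orderOf_pi chart hx) hs hfr hfs
  obtain ⟨-, ⟨e'⟩⟩ := exists_XX_equiv hg
  obtain ⟨E, M, hE, hM, K, _, _, hEM, hE3, hM2, hK, ⟨e0⟩⟩ := hT.chain
  have h1 : Nat.card ↥M = 3265920 * 3 := by
    rw [Subgroup.card_eq_card_quotient_mul_card_subgroup (E.subgroupOf M), Nat.card_congr e0.toEquiv,
      CTwoTab.card_psu_four_three hK, Nat.card_congr (Subgroup.subgroupOfEquivOfLe hEM).toEquiv, hE3]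
  have h2 : Nat.card (XX s) = 3265920 * 3 * 2 := by rw [← Subgroup.card_mul_index M, h1, hM2]
  rw [card_inf Nat.prime_three (by decide) hx, hfr, Nat.card_congr e'.toEquiv, h2]
  norm_num

theorem ch_three_eight (hC : Cover) (hN : CountC) {x : centralizer ({zz} : Set MG)} (hx : orderOf x = 3)
    (hfr : fr (pi x) = 2 ^ 8) : ch (x : MG) = 0 := by
  have hxo : orderOf (x : MG) = 3 := by rw [Subgroup.orderOf_coe, hx]
  rcases ev_three hC (ev_of_comm (comm_coe x)) hxo with h | h | h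
  · exact h
  · have h1 := count_row hN (by norm_num) row_3B (comm_coe x) hxo h
    rw [inf_three_eight hx hfr] at h1
    norm_num [NC] at h1
  · have h1 := count_row hN (by norm_num) row_3A (comm_coe x) hxo h
    rw [inf_three_eight hx hfr] at h1
    norm_num [NC] at h1

theorem ch_three_twelve (hC : Cover) (hN : CountC) {x : centralizer ({zz} : Set MG)} (hx : orderOf x = 3)
    (hfr : fr (pi x) = 2 ^ 12) : ch (x : MG) = 783 := by
  obtain ⟨y, hy, ho, h⟩ := exists_row hN (by norm_num) row_3A (by norm_num)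
  have h1 : ch y = 783 := by simpa using h
  let y' : centralizer ({zz} : Set MG) := ⟨y, mem_centralizer_singleton_iff.2 hy⟩
  have hy' : orderOf y' = 3 := by rw [← Subgroup.orderOf_coe]; exact ho
  have h2 : fr (pi y') = 2 ^ 12 := by
    rcases CoOneFin.coOne.ranks (pi y') (orderOf_pi chart hy') with h2 | h2 | h2 | h2
    · have h3 : ch y = 54 := (three_low hC hy' (Or.inl h2)).1
      omega
    · have h3 : ch y = 54 := (three_low hC hy' (Or.inr h2)).1
      omega
    · have h3 : ch y = 0 := ch_three_eight hC hN hy' h2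
      omega
    · exact h2
  obtain ⟨g, hg⟩ := CoOneFin.coOne.twelve (pi x) (pi y') (orderOf_pi chart hx) (orderOf_pi chart hy') hfr h2
  obtain ⟨c, hc⟩ := MFive.exists_conj_of_conj chart Nat.prime_three (by decide)
    (by rw [← hx, pow_orderOf_eq_one]) (by rw [← hy', pow_orderOf_eq_one]) hg
  have h3 : (c : MG) * x * (c : MG)⁻¹ = y := congrArg Subtype.val hc
  rw [← ch_conj c, h3, h1]

/-- **the elements of order 3 of `C(z)`** -/
theorem three_id (hC : Cover) (hN : CountC) {y : MG} (hy : y * zz = zz * y) (ho : orderOf y = 3) :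
    (ch y = 54 ∧ Nat.card ↥(centralizer ({y} : Set MG)) ∣ 3 ^ 13 * (448345497600 * 2)) ∨
    (ch y = 0 ∧ Nat.card ↥(centralizer ({y} : Set MG)) = 3 * 90745943887872000 ∧
      Nat.card ↥(centralizer ({zz} : Set MG) ⊓ centralizer ({y} : Set MG)) = 278691840) ∨
    (ch y = 783 ∧ Nat.card ↥(centralizer ({y} : Set MG)) = 3 * 1255205709190661721292800 ∧
      Nat.card ↥(centralizer ({zz} : Set MG) ⊓ centralizer ({y} : Set MG)) = 481579499520) := by
  have := finite
  have := simple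
  have I := CoOneFin.coOne
  obtain ⟨x, rfl⟩ : ∃ x : centralizer ({zz} : Set MG), (x : MG) = y := ⟨⟨y, mem_centralizer_singleton_iff.2 hy⟩, rfl⟩
  have hx : orderOf x = 3 := by rw [← Subgroup.orderOf_coe]; exact ho
  rcases I.ranks (pi x) (orderOf_pi chart hx) with h1 | h1 | h1 | h1
  · exact Or.inl (three_low hC hx (Or.inl h1))
  · exact Or.inl (three_low hC hx (Or.inr h1))
  · right; left
    obtain ⟨e⟩ := LThreeB.isoTh_of_inputs chart I hx h1
    refine ⟨ch_three_eight hC hN hx h1, ?_, inf_three_eight hx h1⟩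
    rw [card_XX, ho, Nat.card_congr e.toEquiv, Cfsg.Agent.S1700.result.2]
  · right; right
    obtain ⟨e⟩ := LThreeB.isoFi_of_inputs chart I hx h1
    refine ⟨ch_three_twelve hC hN hx h1, ?_, inf_three_twelve hx h1⟩
    rw [card_XX, ho, Nat.card_congr e.toEquiv, Cfsg.Agent.S1698.result.2]

/-- `y` of order 3 with a trace other than 54 : the products with the 2-elements of `C(y)` -/
theorem ev_three_mul (hC : Cover) (hN : CountC) {y t : MG} (ho : orderOf y = 3) (he : Ev y)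
    (h54 : ch y ≠ 54) (hty : t * y = y * t) {n : ℕ} (ht : t ^ 2 ^ n = 1) :
    Ev (y * t) := by
  obtain ⟨c, hc⟩ := ev_iff.1 he
  have h1 : orderOf (c * y * c⁻¹) = 3 := ((MulAut.conj c).orderOf_eq y).trans ho
  have h3 : (c * t * c⁻¹) * (c * y * c⁻¹) = (c * y * c⁻¹) * (c * t * c⁻¹) := by
    calc (c * t * c⁻¹) * (c * y * c⁻¹) = c * (t * y) * c⁻¹ := by group
      _ = c * (y * t) * c⁻¹ := by rw [hty]
      _ = _ := by group
  have h4 : (c * t * c⁻¹) ^ 2 ^ n = 1 := by rw [conj_pow, ht]; group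
  have h5 : Ev ((c * y * c⁻¹) * (c * t * c⁻¹)) := by
    rcases three_id hC hN hc h1 with ⟨h, -⟩ | ⟨-, h, h'⟩ | ⟨-, h, h'⟩
    · rw [ch_conj] at h
      exact absurd h h54
    · exact ev_of_sylow (k := 15) hc (by rw [h]; norm_num) (by rw [h']; norm_num) h3 h4
    · exact ev_of_sylow (k := 21) hc (by rw [h]; norm_num) (by rw [h']; norm_num) h3 h4
  have h6 := h5.conj c⁻¹
  have h7 : c⁻¹ * ((c * y * c⁻¹) * (c * t * c⁻¹)) * c⁻¹⁻¹ = y * t := by group
  rwa [h7] at h6

end Cfsg.Agent.TAB.M7
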