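import Cfsg.Agent.TAB.M7.SevenA

/-!
# The Monster: the boxes `7A`, `14A`, `21A`, `21C`, `28A`, `35A`, `42A`, `70A`, `84A`, `105A` (helper46, TAB)
-/

set_option autoImplicit false
set_option maxRecDepth 100000

namespace Cfsg.Agent.TAB.M7

open Cfsg Cfsg.Agent.TAB.Eng Cfsg.Agent.TAB.M Cfsg.Agent.TAB.C2B
open Cfsg.Agent.BpSpor.MBigModel
open Cfsg.Agent.H825.HT.He7 (X X_ord)
open Subgroup (centralizer zpowers mem_centralizer_singleton_iff)

theorem ty_pw {i : ℕ} (hi : i < 171) {g : MG} (hg : TyM i g) (k : ℕ) {j : ℕ} (h : dat.pwf i k = j) :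
    TyM j (g ^ k) := h ▸ (M4.ty_pow hi hg k).2

theorem boxC_of {i c : ℕ} {g : MG} (hg : TyM i g) (hc : Nat.card (centralizer ({g} : Set MG)) = c)
    (h : dat.cnt i * c ≤ 808017424794512875886459904961710757005754368000000000) : BoxCM i :=
  BoxC.of_le hg hc.le (by rw [card_M]; exact h)

section

variable {x : MG} {e : Spor.He →* MG}

theorem ch_G (E : Emb 7 x e) (h : Spor.He) {o : ℕ} (ho : orderOf h = o) {k : ℕ} (hk : 7 ∣ k) (d : ℕ) (hd : d ∣ k)
    (h1 : o.gcd k = o.gcd d) : ch ((x * e h) ^ k) = ch (e h ^ d) := by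
  rw [E.pow_dvd h hk, map_pow, ch_gcd (by rw [E.ord_e, ho]) k d hd h1]

theorem cen84_2 (E : Emb 7 x e) : Nat.card (centralizer ({(x * e (X 15)) ^ 2} : Set MG)) = 504 :=
  cen_F E _ (by norm_num) c12_2 (by decide)

theorem cen84_3 (E : Emb 7 x e) : Nat.card (centralizer ({(x * e (X 15)) ^ 3} : Set MG)) = 4704 :=
  cen_F E _ (by norm_num) c12_3 (by decide)

theorem cen84_4 (E : Emb 7 x e) : Nat.card (centralizer ({(x * e (X 15)) ^ 4} : Set MG)) = 52920 :=
  cen_F E _ (by norm_num) c12_4 (by decide)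

theorem cen84_6 (E : Emb 7 x e) : Nat.card (centralizer ({(x * e (X 15)) ^ 6} : Set MG)) = 1128960 :=
  cen_F E _ (by norm_num) c12_6 (by decide)

theorem cen84_12 (E : Emb 7 x e) : Nat.card (centralizer ({(x * e (X 15)) ^ 12} : Set MG)) = 28212710400 := by
  have h1 : X 15 ^ 12 = 1 := by rw [← o12, pow_orderOf_eq_one]
  have h2 : centralizer ({1} : Set Spor.He) = ⊤ := by
    rw [eq_top_iff]
    intro y _
    rw [mem_centralizer_singleton_iff, mul_one, one_mul]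
  rw [E.cen_pow _ (by norm_num) (by rw [h1, orderOf_one]; norm_num), h1, h2, Subgroup.card_top,
    Cfsg.Agent.KFacts.He.Classes.card_he]

theorem arith84 {c b a : ℤ} (c1 : ((7 : ℕ) : ℤ) ∣ c - 7) (c2 : ((3 : ℕ) : ℤ) ∣ c - 3) (c3 : ((2 : ℕ) : ℤ) ∣ c - b)
    (c4 : ((7 : ℕ) : ℤ) ∣ b - 79) (c5 : ((3 : ℕ) : ℤ) ∣ b - 11) (c6 : ((2 : ℕ) : ℤ) ∣ b - a)
    (c7 : ((7 : ℕ) : ℤ) ∣ a - 783) (c8 : ((3 : ℕ) : ℤ) ∣ a - 51) (h5 : ((5 : ℕ) : ℤ) ∣ 1 - a)
    (c9 : ((4 : ℕ) : ℤ) ∣ 0 + a + c + b + c) (b1 : -10 < c - 1 ∧ c - 1 < 10) (b2 : -23 < b - 1 ∧ b - 1 < 23)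
    (b4 : -231 < a - 1 ∧ a - 1 < 231) : c = 0 ∧ b = 2 ∧ a = 6 := by
  have cop : ∀ {m n z : ℤ}, Int.gcd m n = 1 → m ∣ z → n ∣ z → m * n ∣ z := fun h h1 h2 =>
    (Int.isCoprime_iff_gcd_eq_one.2 h).mul_dvd h1 h2
  have k1 : c = 0 := by
    obtain ⟨k, hk⟩ := cop (m := 7) (n := 3) (z := c) (by norm_num) (by clear * - c1; omega) (by clear * - c2; omega)
    clear * - hk b1
    omega
  subst k1
  have k2 : b = 2 := by
    obtain ⟨k, hk⟩ := cop (m := 7 * 3) (n := 2) (z := b - 2) (by norm_num)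
      (cop (by norm_num) (by clear * - c4; omega) (by clear * - c5; omega)) (by clear * - c3; omega)
    clear * - hk b2
    omega
  subst k2
  refine ⟨rfl, rfl, ?_⟩
  obtain ⟨k, hk⟩ := cop (m := 7 * 3 * 5) (n := 4) (z := a - 6) (by norm_num)
    (cop (by norm_num) (cop (by norm_num) (by clear * - c7; omega) (by clear * - c8; omega)) (by clear * - h5; omega))
    (by clear * - c9; omega)
  clear * - hk b4
  omega

/-- the values on the cyclic group of order 84 -/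
theorem v84 (hC : Cover) (hN : CountC) (E : Emb 7 x e) (hx : ch x = 51) (h2A : ch (x * e (X 5)) = 11)
    (h4A : ch (x * e (X 9)) = 3) : TyM 158 (x * e (X 15)) ∧ ch (x * e (X 7)) = 6 := by
  have := finite
  obtain ⟨a1, a2, a3, a4, a6⟩ := v12 hC hN E hx
  have ho : orderOf (x * e (X 15)) = 84 := ord_X E 15 (by decide)
  have h3 : ch ((x * e (X 15)) ^ 3) = 3 := by rw [ch_F E _ (by norm_num) c12_3 (by decide), h4A]
  have h6 : ch ((x * e (X 15)) ^ 6) = 11 := by rw [ch_F E _ (by norm_num) c12_6 (by decide), h2A]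
  have h4 : ch ((x * e (X 15)) ^ 4) = ch (x * e (X 7)) := ch_F E _ (by norm_num) c12_4 (by decide)
  have h12 : ch ((x * e (X 15)) ^ 12) = 51 := ch_x E hx _ (by norm_num) (by rw [o12])
  have h7 : ch ((x * e (X 15)) ^ 7) = 7 := by rw [ch_G E _ o12 (by norm_num) 1 (by norm_num) (by norm_num), a1]
  have h14 : ch ((x * e (X 15)) ^ 14) = 79 := by rw [ch_G E _ o12 (by norm_num) 2 (by norm_num) (by norm_num), a2]
  have h21 : ch ((x * e (X 15)) ^ 21) = 52 := by rw [ch_G E _ o12 (by norm_num) 3 (by norm_num) (by norm_num), a3]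
  have h28 : ch ((x * e (X 15)) ^ 28) = 783 := by rw [ch_G E _ o12 (by norm_num) 4 (by norm_num) (by norm_num), a4]
  have h42 : ch ((x * e (X 15)) ^ 42) = 4372 := by rw [ch_G E _ o12 (by norm_num) 6 (by norm_num) (by norm_num), a6]
  have h5 := ch_pow_prime (x * e (X 19)) Nat.prime_five
  rw [v105 E hx, ch_F E _ (by norm_num) c15_5 (by decide), ← h4] at h5
  have b1 := bnd 10 (cen_X E 15 (by decide)) (by decide) (by norm_num)
  have b2 := bnd 23 (cen84_2 E) (by norm_num) (by norm_num)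
  have b4 := bnd 231 (cen84_4 E) (by norm_num) (by norm_num)
  rw [← h4]
  generalize x * e (X 15) = g at *
  have c1 := cong g (k := 1) prime7 (n := 7) rfl
  have c2 := cong g (k := 1) Nat.prime_three (n := 3) rfl
  have c3 := cong g (k := 1) Nat.prime_two (n := 2) rfl
  have c4 := cong g (k := 2) prime7 (n := 14) rfl
  have c5 := cong g (k := 2) Nat.prime_three (n := 6) rfl
  have c6 := cong g (k := 2) Nat.prime_two (n := 4) rfl
  have c7 := cong g (k := 4) prime7 (n := 28) rfl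
  have c8 := cong g (k := 4) Nat.prime_three (n := 12) rfl
  have c9 := ch_avg_cyc (x := g ^ 4) (y := g ^ 21) ((Commute.refl g).pow_pow 4 21)
  rw [ord_pow ho, show 84 / Nat.gcd 84 21 = 4 by norm_num] at c9
  simp only [Finset.sum_range_succ, Finset.sum_range_zero, ← pow_mul, ← pow_add] at c9
  rw [ch_gcd ho (4 + 21 * 0) 4 (by norm_num) (by norm_num), ch_gcd ho (4 + 21 * 1) 1 (by norm_num) (by norm_num),
    ch_gcd ho (4 + 21 * 2) 2 (by norm_num) (by norm_num), ch_gcd ho (4 + 21 * 3) 1 (by norm_num) (by norm_num)] at c9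
  rw [← pow_one g] at b1
  rw [h7] at c1
  rw [h3] at c2
  rw [h14] at c4
  rw [h6] at c5
  rw [h28] at c7
  rw [h12] at c8
  obtain ⟨k1, k2, k4⟩ := arith84 c1 c2 c3 c4 c5 c6 c7 c8 h5 c9 b1 b2 b4
  refine ⟨(tyM_iff' sg_84A g).2 ⟨ho, ?_⟩, k4⟩
  simp only [List.mem_cons, List.not_mem_nil, or_false, forall_eq_or_imp, forall_eq]
  exact ⟨k1, k2, h3, k4, h6, h7, h12, h14, h21, h28, h42⟩

theorem ty70 (E : Emb 7 x e) (hx : ch x = 51) (h2A : ch (x * e (X 5)) = 11) : TyM 153 (x * e (X 18)) := by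
  have := finHe
  refine (tyM_iff' sg_70A _).2 ⟨ord_X E 18 (by decide), ?_⟩
  simp only [List.mem_cons, List.not_mem_nil, or_false, forall_eq_or_imp, forall_eq]
  refine ⟨?_, ?_, ?_, ?_, ?_, ?_, ?_⟩
  · rw [pow_one, v70 E hx]
  · rw [ch_F E _ (by norm_num) (cl_five (ord_pow o10 2)) (by decide), (five_val E hx).1]
  · rw [ch_F E _ (by norm_num) c10_5 (by decide), h2A]
  · rw [ch_G E _ o10 (by norm_num) 1 (by norm_num) (by norm_num), pow_one, v10 E hx]
  · exact ch_x E hx _ (by norm_num) (by rw [o10])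
  · rw [E.pow_dvd _ (by norm_num), ch5 E hx (ord_pow o10 14)]
  · rw [ch_G E _ o10 (by norm_num) 5 (by norm_num) (by norm_num), ← map_pow, G_conj c10_5, v2A E hx]

theorem ty105 (hC : Cover) (E : Emb 7 x e) (hx : ch x = 51) (h3A : ch (x * e (X 7)) = 6) :
    TyM 168 (x * e (X 19)) := by
  have := finHe
  refine (tyM_iff' sg_105A _).2 ⟨ord_X E 19 (by decide), ?_⟩
  simp only [List.mem_cons, List.not_mem_nil, or_false, forall_eq_or_imp, forall_eq]
  refine ⟨?_, ?_, ?_, ?_, ?_, ?_, ?_⟩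
  · rw [pow_one, v105 E hx]
  · rw [ch_F E _ (by norm_num) (cl_five (ord_pow o15 3)) (by decide), (five_val E hx).1]
  · rw [ch_F E _ (by norm_num) c15_5 (by decide), h3A]
  · rw [ch_G E _ o15 (by norm_num) 1 (by norm_num) (by norm_num), pow_one, v15 E hx]
  · exact ch_x E hx _ (by norm_num) (by rw [o15])
  · rw [E.pow_dvd _ (by norm_num), ch5 E hx (ord_pow o15 21)]
  · rw [ch_G E _ o15 (by norm_num) 5 (by norm_num) (by norm_num), ← map_pow, G_conj c15_5, v3A hC E hx]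

end

theorem ex84 (hC : Cover) (hN : CountC) : ∃ (x : MG) (e : Spor.He →* MG), Emb 7 x e ∧ TyM 158 (x * e (X 15)) ∧
    TyM 153 (x * e (X 18)) ∧ TyM 168 (x * e (X 19)) := by
  obtain ⟨x, e, E, hx, h2, h4⟩ := base hC hN
  obtain ⟨h1, h3⟩ := v84 hC hN E hx h2 h4
  exact ⟨x, e, E, h1, ty70 E hx h2, ty105 hC E hx h3⟩

theorem boxC_84A (hC : Cover) (hN : CountC) : BoxCM 158 := by
  obtain ⟨x, e, E, h, -⟩ := ex84 hC hN
  exact boxC_of (c := 84) h (cen_X E 15 (by decide)) (by rw [cnt_84A])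

theorem boxC_42A (hC : Cover) (hN : CountC) : BoxCM 122 := by
  obtain ⟨x, e, E, h, -⟩ := ex84 hC hN
  exact boxC_of (ty_pw (by norm_num) h 2 (by decide +kernel)) (cen84_2 E) (by rw [cnt_42A])

theorem boxC_28A (hC : Cover) (hN : CountC) : BoxCM 90 := by
  obtain ⟨x, e, E, h, -⟩ := ex84 hC hN
  exact boxC_of (ty_pw (by norm_num) h 3 (by decide +kernel)) (cen84_3 E) (by rw [cnt_28A])

theorem boxC_21A (hC : Cover) (hN : CountC) : BoxCM 69 := by
  obtain ⟨x, e, E, h, -⟩ := ex84 hC hN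
  exact boxC_of (ty_pw (by norm_num) h 4 (by decide +kernel)) (cen84_4 E) (by rw [cnt_21A])

theorem boxC_14A (hC : Cover) (hN : CountC) : BoxCM 46 := by
  obtain ⟨x, e, E, h, -⟩ := ex84 hC hN
  exact boxC_of (ty_pw (by norm_num) h 6 (by decide +kernel)) (cen84_6 E) (by rw [cnt_14A])

theorem boxC_7A (hC : Cover) (hN : CountC) : BoxCM 18 := by
  obtain ⟨x, e, E, h, -⟩ := ex84 hC hN
  exact boxC_of (ty_pw (by norm_num) h 12 (by decide +kernel)) (cen84_12 E) (by rw [cnt_7A])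

theorem boxC_70A (hC : Cover) (hN : CountC) : BoxCM 153 := by
  obtain ⟨x, e, E, -, h, -⟩ := ex84 hC hN
  exact boxC_of (c := 140) h (cen_X E 18 (by decide)) (by rw [cnt_70A])

theorem boxC_35A (hC : Cover) (hN : CountC) : BoxCM 108 := by
  have := finHe
  obtain ⟨x, e, E, -, h, -⟩ := ex84 hC hN
  exact boxC_of (c := 2100) (ty_pw (by norm_num) h 2 (by decide +kernel))
    (cen_F E _ (by norm_num) (cl_five (ord_pow o10 2)) (by decide)) (by rw [cnt_35A])

theorem boxC_105A (hC : Cover) (hN : CountC) : BoxCM 168 := by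
  obtain ⟨x, e, E, -, -, h⟩ := ex84 hC hN
  exact boxC_of (c := 105) h (cen_X E 19 (by decide)) (by rw [cnt_105A])

theorem boxC_21C (hC : Cover) (hN : CountC) : BoxCM 71 := by
  have := finite
  obtain ⟨ho, hv⟩ := (tyM_iff' sg_21C g21).1 ty_21C
  simp only [List.mem_cons, List.not_mem_nil, or_false, forall_eq_or_imp, forall_eq] at hv
  obtain ⟨-, h3, h7⟩ := hv
  have hx : ch (g21 ^ 15) = 51 := by rw [ch_gcd ho 15 3 (by norm_num) (by norm_num), h3]
  have hz : g21 ^ 15 * zz = zz * g21 ^ 15 := ((show Commute g21 zz from g21_comm).pow_left 15).eq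
  obtain ⟨e, E⟩ := exists_he hC hN hz (ord_pow ho 15) hx
  obtain ⟨s, hs⟩ := E.mem (g21 ^ 7) ((Commute.refl _).pow_pow 15 7) (by rw [ord_pow ho]; norm_num)
  have hso : orderOf s = 3 := by rw [← E.ord_e, hs, ord_pow ho]; norm_num
  have h1 : IsConj (X 8) s := by
    refine (cl_two (o := 3) 7 8 hso (by decide)).resolve_left fun h => ?_
    rw [← hs, G_conj h, v3A hC E hx] at h7
    norm_num at h7
  have h2 := E.cen_one prime7 (h := s) (by rw [hso]; norm_num)
  have h21 : g21 ^ 21 = 1 := by rw [← ho, pow_orderOf_eq_one]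
  rw [cen_of_X h1, hs, ← pow_add, show 15 + 7 = 21 + 1 by norm_num, pow_succ, h21, one_mul] at h2
  exact boxC_of (c := 3528) ty_21C h2 (by rw [cnt_21C])

end Cfsg.Agent.TAB.M7
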