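import Cfsg.Agent.TAB.M5.A
import Cfsg.Agent.H825.HT.HeFun

/-!
# Centralizers of the shape `⟨x⟩ × S`; the classes of the Held group (helper46, TAB)
-/

set_option autoImplicit false
set_option maxRecDepth 100000

namespace Cfsg.Agent.TAB.M7

open Cfsg Cfsg.Agent.H66.M23.Loc
open Subgroup (centralizer zpowers mem_centralizer_singleton_iff)

/-- `C(x) = ⟨x⟩ × e(S)` -/
structure Emb {G S : Type} [Group G] [Group S] (p : ℕ) (x : G) (e : S →* G) : Prop where
  ord : orderOf x = p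
  inj : Function.Injective e
  comm : ∀ h, Commute x (e h)
  mem : ∀ y, Commute x y → ¬ p ∣ orderOf y → ∃ h, e h = y
  cen : ∀ (i : ℕ) (h : S), ¬ p ∣ i → ¬ p ∣ orderOf h →
    Nat.card (centralizer ({x ^ i * e h} : Set G)) = p * Nat.card (centralizer ({h} : Set S))

theorem exists_emb {G S : Type} [Group G] [Group S] {p : ℕ} (hp : p.Prime) {x : G} {T : Subgroup G}
    (d : DP S p x T) : ∃ e : S →* G, Emb p x e := by
  obtain ⟨e0⟩ := d.iso
  let e : S →* G := T.subtype.comp e0.symm.toMonoidHom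
  have hinj : Function.Injective e := T.subtype_injective.comp e0.symm.injective
  have hmem : ∀ h, e h ∈ T := fun h => (e0.symm h).2
  have hex : ∀ t ∈ T, ∃ h, e h = t := fun t ht =>
    ⟨e0 ⟨t, ht⟩, by show ((e0.symm (e0 ⟨t, ht⟩) : T) : G) = t; rw [MulEquiv.symm_apply_apply]⟩
  have hcomm : ∀ h, Commute x (e h) := fun h => (mem_centralizer_singleton_iff.1 (d.le (hmem h))).symm
  refine ⟨e, d.ord, hinj, hcomm, fun y hy h5 => hex y (H136.M23.BWords.DP.mem_of_pow d hy (m := orderOf y)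
    ((Nat.Prime.coprime_iff_not_dvd hp).2 h5).symm (pow_orderOf_eq_one y)), fun j h hj h5 => ?_⟩
  have hj' : (orderOf x).Coprime j := by rw [d.ord]; exact (Nat.Prime.coprime_iff_not_dvd hp).2 hj
  have hoj : orderOf (x ^ j) = p := by rw [Nat.Coprime.orderOf_pow hj', d.ord]
  have hcop : Nat.Coprime (orderOf (x ^ j)) (orderOf (e h)) := by
    rw [hoj, orderOf_injective e hinj h]
    exact (Nat.Prime.coprime_iff_not_dvd hp).2 h5
  have hz : Nat.card (zpowers x) = p := by rw [Nat.card_zpowers, d.ord]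
  rw [← hz, ← Nat.card_prod]
  symm
  refine Nat.card_congr (Equiv.ofBijective (fun q => ⟨q.1.1 * e q.2.1, ?_⟩) ⟨?_, ?_⟩)
  · obtain ⟨⟨a, i, rfl⟩, ⟨c, hc⟩⟩ := q
    have h1 : Commute c h := mem_centralizer_singleton_iff.1 hc
    have h2 : Commute (e c) (e h) := h1.map e
    exact mem_centralizer_singleton_iff.2
      (((((Commute.refl x).zpow_left i).pow_right j).mul_right ((hcomm h).zpow_left i)).mul_left
        (((hcomm c).symm.pow_right j).mul_right h2)).eq
  · rintro ⟨a, c⟩ ⟨a', c'⟩ he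
    have h1 : a.1 * e c.1 = a'.1 * e c'.1 := congrArg Subtype.val he
    have h2 : a'.1⁻¹ * a.1 = e c'.1 * (e c.1)⁻¹ := by
      calc a'.1⁻¹ * a.1 = a'.1⁻¹ * (a.1 * e c.1) * (e c.1)⁻¹ := by group
        _ = _ := by rw [h1]; group
    have h3 : a'.1⁻¹ * a.1 ∈ zpowers x ⊓ T :=
      ⟨Subgroup.mul_mem _ (Subgroup.inv_mem _ a'.2) a.2,
        h2 ▸ Subgroup.mul_mem _ (hmem _) (Subgroup.inv_mem _ (hmem _))⟩
    rw [d.disj.eq_bot, Subgroup.mem_bot] at h3
    have h4 : a' = a := Subtype.ext (inv_mul_eq_one.1 h3)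
    subst h4
    have h6 : c = c' := Subtype.ext (hinj (mul_left_cancel h1))
    rw [h6]
  · rintro ⟨c, hc⟩
    have h1 : Commute c (x ^ j * e h) := mem_centralizer_singleton_iff.1 hc
    obtain ⟨h2, h3⟩ := M5.comm_parts ((hcomm h).pow_left j) hcop (by rw [hoj]; exact hp.pos) h1
    obtain ⟨l, hl⟩ := exists_pow_eq_self_of_coprime (x := x) (n := j) hj'.symm
    have h2' : Commute c x := by
      have h4 := h2.pow_right l
      rwa [hl] at h4
    obtain ⟨i, t, ht, rfl⟩ := d.split c (mem_centralizer_singleton_iff.2 h2'.eq)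
    obtain ⟨k, rfl⟩ := hex t ht
    have h4 : Commute (e k) (e h) := by
      have h6 := ((hcomm h).pow_left i).inv_left.mul_left h3
      rwa [inv_mul_cancel_left] at h6
    refine ⟨(⟨x ^ i, Subgroup.pow_mem _ (Subgroup.mem_zpowers _) i⟩, ⟨k, ?_⟩), rfl⟩
    rw [mem_centralizer_singleton_iff]
    apply hinj
    rw [map_mul, map_mul]
    exact h4.eq

namespace Emb

variable {G S : Type} [Group G] [Group S] {p : ℕ} {x : G} {e : S →* G}

theorem ord_e (E : Emb p x e) (h : S) : orderOf (e h) = orderOf h := orderOf_injective e E.inj h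

theorem pow (E : Emb p x e) (h : S) (k : ℕ) : (x * e h) ^ k = x ^ k * e (h ^ k) := by
  rw [(E.comm h).mul_pow, map_pow]

theorem pow_dvd (E : Emb p x e) (h : S) {k : ℕ} (hk : p ∣ k) : (x * e h) ^ k = e (h ^ k) := by
  rw [E.pow, orderOf_dvd_iff_pow_eq_one.1 (E.ord ▸ hk), one_mul]

theorem ord_mul (E : Emb p x e) (hp : p.Prime) {h : S} (h5 : ¬ p ∣ orderOf h) :
    orderOf (x * e h) = p * orderOf h := by
  rw [(E.comm h).orderOf_mul_eq_mul_orderOf_of_coprime, E.ord, E.ord_e]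
  rw [E.ord, E.ord_e]
  exact (Nat.Prime.coprime_iff_not_dvd hp).2 h5

theorem cen_pow (E : Emb p x e) (h : S) {k : ℕ} (hk : ¬ p ∣ k) (h5 : ¬ p ∣ orderOf (h ^ k)) :
    Nat.card (centralizer ({(x * e h) ^ k} : Set G)) = p * Nat.card (centralizer ({h ^ k} : Set S)) := by
  rw [E.pow, E.cen k _ hk h5]

theorem cen_one (E : Emb p x e) (hp : p.Prime) {h : S} (h5 : ¬ p ∣ orderOf h) :
    Nat.card (centralizer ({x * e h} : Set G)) = p * Nat.card (centralizer ({h} : Set S)) := by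
  have h1 := E.cen 1 h (fun h2 => hp.one_lt.ne' (Nat.dvd_one.1 h2)) h5
  rwa [pow_one] at h1

theorem conj (E : Emb p x e) {h h' : S} (hc : IsConj h h') : IsConj (x * e h) (x * e h') := by
  obtain ⟨c, rfl⟩ := isConj_iff.1 hc
  refine isConj_iff.2 ⟨e c, ?_⟩
  rw [map_mul, map_mul, map_inv, ← mul_assoc, ← (E.comm c).eq]
  group

/-- `x` centralizes `e h` -/
theorem dvd_cen [Finite G] (E : Emb p x e) (h : S) : p ∣ Nat.card (centralizer ({e h} : Set G)) := by
  rw [← E.ord]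
  exact Subgroup.orderOf_dvd_natCard _ (mem_centralizer_singleton_iff.2 (E.comm h).eq)

end Emb

theorem exists_comm {G : Type*} [Group G] [Finite G] {h : G} {p : ℕ} (hp : p.Prime)
    (hd : p ∣ Nat.card (centralizer ({h} : Set G))) : ∃ s : G, orderOf s = p ∧ s * h = h * s := by
  have : Fact p.Prime := ⟨hp⟩
  obtain ⟨s, hs⟩ := exists_prime_orderOf_dvd_card' p hd
  exact ⟨s, by rw [Subgroup.orderOf_coe, hs], mem_centralizer_singleton_iff.1 s.2⟩

theorem cen_dvd_pow {G : Type*} [Group G] (h : G) (k : ℕ) :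
    Nat.card (centralizer ({h} : Set G)) ∣ Nat.card (centralizer ({h ^ k} : Set G)) :=
  Subgroup.card_dvd_of_le fun _ hc => mem_centralizer_singleton_iff.2
    ((show Commute _ h from mem_centralizer_singleton_iff.1 hc).pow_right k).eq

/-! ### The Held group -/

open Cfsg.Agent.H825.HT.He7 Cfsg.Agent.H825.SB.He

theorem finHe : Finite Spor.He := Cfsg.Agent.SporadicB.HeUpper.card_he_le.1

theorem X_cen (i : Fin 33) : Nat.card (centralizer ({X i} : Set Spor.He)) = C33.getD i 0 := by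
  have := finHe
  refine H300.Cls.card_cent ?_ (by rw [Cfsg.Agent.KFacts.He.Classes.card_he]; exact X_card i)
  rw [Cfsg.Agent.KFacts.He.Classes.card_he]
  exact (by decide +kernel : ∀ i : Fin 33, C33.getD i 0 ∣ 4030387200) i

theorem cen_of_X {i : Fin 33} {h : Spor.He} (hc : IsConj (X i) h) :
    Nat.card (centralizer ({h} : Set Spor.He)) = C33.getD i 0 := by rw [M5.card_cent_conj hc, X_cen]

theorem ord_of_X {i : Fin 33} {h : Spor.He} (hc : IsConj (X i) h) : orderOf h = O33.getD i 0 := by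
  rw [← H235.Ore.He.ord_conj hc, X_ord]

/-- the class from the order and a divisor of the order of the centralizer -/
theorem cl_of {h : Spor.He} {o d : ℕ} (i : Fin 33) (ho : orderOf h = o)
    (hd : d ∣ Nat.card (centralizer ({h} : Set Spor.He)))
    (H : ∀ j : Fin 33, O33.getD j 0 = o → d ∣ C33.getD j 0 → j = i) : IsConj (X i) h := by
  obtain ⟨j, hj⟩ := X_cov h
  rwa [H j ((ord_of_X hj).symm.trans ho) (cen_of_X hj ▸ hd)] at hj

/-- two classes -/
theorem cl_two {h : Spor.He} {o : ℕ} (i k : Fin 33) (ho : orderOf h = o)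
    (H : ∀ j : Fin 33, O33.getD j 0 = o → j = i ∨ j = k) : IsConj (X i) h ∨ IsConj (X k) h := by
  obtain ⟨j, hj⟩ := X_cov h
  rcases H j ((ord_of_X hj).symm.trans ho) with rfl | rfl
  · exact Or.inl hj
  · exact Or.inr hj

theorem cl_five {h : Spor.He} (ho : orderOf h = 5) : IsConj (X 16) h := cl_of 16 ho (one_dvd _) (by decide)

/-- an element of order 4 whose square is in the class `2A` -/
theorem cl_four {h : Spor.He} (ho : orderOf h = 4) (h2 : IsConj (X 5) (h ^ 2)) : IsConj (X 9) h := by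
  obtain ⟨j, hj⟩ := X_cov h
  have h1 := ff_sq h
  rw [← ff_conj h2, ff_X, ← ff_conj hj, ff_X] at h1
  have H : ∀ j : Fin 33, O33.getD j 0 = 4 → F25.getD (5 : Fin 33) 0 = Q2.getD (F25.getD j 0) 0 → j = 9 := by decide
  rwa [H j ((ord_of_X hj).symm.trans ho) h1] at hj

theorem cl_sq {h : Spor.He} (i k : Fin 33) (hc : IsConj (X i) h)
    (H : ∀ j : Fin 33, F25.getD j 0 = Q2.getD (F25.getD i 0) 0 → j = k) : IsConj (X k) (h ^ 2) := by
  obtain ⟨j, hj⟩ := X_cov (h ^ 2)
  have h1 := ff_sq h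
  rw [← ff_conj hj, ff_X, ← ff_conj hc, ff_X] at h1
  rwa [H j h1] at hj

theorem ord_pow {G : Type*} [Group G] [Finite G] {h : G} {o : ℕ} (ho : orderOf h = o) (k : ℕ) :
    orderOf (h ^ k) = o / o.gcd k := by rw [orderOf_pow, ho]

theorem o12 : orderOf (X 15) = 12 := X_ord 15
theorem o10 : orderOf (X 18) = 10 := X_ord 18
theorem o15 : orderOf (X 19) = 15 := X_ord 19

theorem c12_2 : IsConj (X 12) (X 15 ^ 2) := cl_sq 15 12 (IsConj.refl _) (by decide)

theorem c12_4 : IsConj (X 7) (X 15 ^ 4) := by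
  have h := cl_sq 12 7 c12_2 (by decide)
  rwa [← pow_mul] at h

theorem c12_6 : IsConj (X 5) (X 15 ^ 6) := by
  have := finHe
  refine cl_of (d := 72) 5 (ord_pow o12 6) ?_ (by decide)
  have h := cen_dvd_pow (X 15 ^ 2) 3
  rwa [cen_of_X c12_2, ← pow_mul] at h

theorem c12_3 : IsConj (X 9) (X 15 ^ 3) := by
  have := finHe
  exact cl_four (ord_pow o12 3) (by rw [← pow_mul]; exact c12_6)

theorem c10_5 : IsConj (X 5) (X 18 ^ 5) := by
  have := finHe
  refine cl_of (d := 20) 5 (ord_pow o10 5) ?_ (by decide)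
  have h := cen_dvd_pow (X 18) 5
  rwa [X_cen] at h

theorem c15_5 : IsConj (X 7) (X 19 ^ 5) := by
  have := finHe
  refine cl_of (d := 15) 7 (ord_pow o15 5) ?_ (by decide)
  have h := cen_dvd_pow (X 19) 5
  rwa [X_cen] at h

/-- a subgroup of order 25 -/
theorem exists_25 : ∃ P : Subgroup Spor.He, Nat.card P = 25 ∧ ∀ h ∈ P, h ≠ 1 → IsConj (X 16) h := by
  have := finHe
  have : Fact (Nat.Prime 5) := ⟨Nat.prime_five⟩
  obtain ⟨P, hP⟩ := Sylow.exists_subgroup_card_pow_prime (G := Spor.He) 5 (n := 2)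
    (by rw [Cfsg.Agent.KFacts.He.Classes.card_he]; norm_num)
  refine ⟨P, hP, fun h hh h1 => ?_⟩
  obtain ⟨j, hj⟩ := X_cov h
  have h2 : orderOf h ∣ 5 ^ 2 := hP ▸ Subgroup.orderOf_dvd_natCard P hh
  have h3 : orderOf h ≠ 1 := fun h4 => h1 (orderOf_eq_one_iff.1 h4)
  rw [ord_of_X hj] at h2 h3
  have H : ∀ j : Fin 33, O33.getD j 0 ∣ 5 ^ 2 → O33.getD j 0 ≠ 1 → j = 16 := by decide
  rwa [H j h2 h3] at hj

end Cfsg.Agent.TAB.M7
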