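import Cfsg.Agent.TAB.M7.Ident
import Cfsg.Agent.TAB.M7.Sec
import Cfsg.Agent.TAB.M7.Words
import Cfsg.Agent.TAB.M4.Box
import Cfsg.Agent.H8.Mon.Ev
import Cfsg.Agent.S2049
import Cfsg.Agent.S1695

/-!
# The Monster: the section of the class `7A` (helper46, TAB)
-/

set_option autoImplicit false
set_option maxRecDepth 100000

namespace Cfsg.Agent.TAB.M7

open Cfsg Cfsg.Agent.TAB.Eng Cfsg.Agent.TAB.M Cfsg.Agent.TAB.C2B
open Cfsg.Agent.BpSpor.MBigModel
open Cfsg.Agent.H199.NSmMon (Ev ev_of_even)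
open Cfsg.Agent.H825.HT.He7 (X X_ord)
open Cfsg.Agent.H136.M23.BWords (xu)
open Cfsg.Agent.H651.HNF (Ty)
open Subgroup (centralizer zpowers mem_centralizer_singleton_iff)

theorem prime7 : Nat.Prime 7 := by norm_num

theorem cong (g : MG) {k p n : ℕ} (hp : p.Prime) (h : k * p = n) : (p : ℤ) ∣ ch (g ^ k) - ch (g ^ n) := by
  have h1 := ch_pow_prime (g ^ k) hp
  rwa [← pow_mul, h] at h1

theorem ch_gcd {g : MG} {n : ℕ} (ho : orderOf g = n) (k d : ℕ) (hd : d ∣ k) (h : n.gcd k = n.gcd d) :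
    ch (g ^ k) = ch (g ^ d) := by
  have := finite
  obtain ⟨l, rfl⟩ := hd
  refine ch_of_zpowers (by rw [pow_mul]; exact Subgroup.npow_mem_zpowers _ _) ?_
  rw [ord_pow ho, ord_pow ho, h]

theorem bnd {g : MG} {c : ℕ} (b : ℤ) (h : Nat.card (centralizer ({g} : Set MG)) = c) (hb : (c : ℤ) ≤ b ^ 2)
    (h0 : 0 ≤ b) : -b < ch g - 1 ∧ ch g - 1 < b := by
  have h1 := ch_bound' h.le
  exact abs_lt_of_sq_lt_sq' (by omega) h0

theorem ch_two {t : MG} (ht : orderOf t = 2) : ch t = 276 ∨ ch t = 4372 := by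
  rcases cls ht with ⟨g, rfl⟩ | h
  · exact Or.inl (by rw [ch_conj]; exact ch_of_chr (by exact_mod_cast M4.chr_zz))
  · exact Or.inr (ch_of_chr (by exact_mod_cast M4.chr_ta h))

theorem exists_he (hC : Cover) (hN : CountC) {x : MG} (hz : x * zz = zz * x) (ho : orderOf x = 7) (hx : ch x = 51) :
    ∃ e : Spor.He →* MG, Emb 7 x e := by
  have := finite
  have hs : IsSimpleGroup Spor.He := Cfsg.Agent.S1695.result.1
  obtain ⟨e⟩ := he_of hC hN hz ho hx
  obtain ⟨T, hT⟩ := H66.M23.Loc.DP.of_split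
    (H53.OddLift.commutator_eq_top_of_card Cfsg.Agent.KFacts.He.Classes.card_he (by norm_num)) prime7
    (H66.M23.Split.noStem_of_mult Cfsg.Agent.S2049.result (by norm_num)) ho e
  exact exists_emb prime7 hT

section

variable {x : MG} {e : Spor.He →* MG}

theorem F_conj (E : Emb 7 x e) {h h' : Spor.He} (hc : IsConj h h') : ch (x * e h') = ch (x * e h) :=
  (ch_isConj (E.conj hc)).symm

theorem G_conj {h h' : Spor.He} (hc : IsConj h h') : ch (e h') = ch (e h) := (ch_isConj (e.map_isConj hc)).symm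

theorem ch_xpow (E : Emb 7 x e) {i : ℕ} (hi : ¬ 7 ∣ i) {h : Spor.He} (hh : ¬ 7 ∣ orderOf h) :
    ch (x ^ i * e h) = ch (x * e h) := by
  obtain ⟨j, h1, h2⟩ := Nat.chineseRemainder ((Nat.Prime.coprime_iff_not_dvd prime7).2 hh) i 1
  have h3 : x ^ j = x ^ i := by rw [pow_eq_pow_iff_modEq, E.ord]; exact h1
  have h4 : h ^ j = h ^ 1 := by rw [pow_eq_pow_iff_modEq]; exact h2
  have h5 : (x * e h) ^ j = x ^ i * e h := by rw [E.pow, h3, h4, pow_one]
  rw [← h5]
  apply ch_gal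
  rw [E.ord_mul prime7 hh]
  refine Nat.Coprime.mul_right ?_ ?_
  · rw [Nat.Coprime, h1.gcd_eq]
    exact ((Nat.Prime.coprime_iff_not_dvd prime7).2 hi).symm
  · rw [Nat.Coprime, h2.gcd_eq, Nat.gcd_one_left]

/-- the powers prime to 7 -/
theorem ch_F (E : Emb 7 x e) (h : Spor.He) {k : ℕ} (hk : ¬ 7 ∣ k) {i : Fin 33} (hc : IsConj (X i) (h ^ k))
    (hi : ¬ 7 ∣ H825.HT.He7.O33.getD i 0) : ch ((x * e h) ^ k) = ch (x * e (X i)) := by
  rw [E.pow, ch_xpow E hk (by rw [ord_of_X hc]; exact hi), F_conj E hc]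

theorem cen_F (E : Emb 7 x e) (h : Spor.He) {k : ℕ} (hk : ¬ 7 ∣ k) {i : Fin 33} (hc : IsConj (X i) (h ^ k))
    (hi : ¬ 7 ∣ H825.HT.He7.O33.getD i 0) :
    Nat.card (centralizer ({(x * e h) ^ k} : Set MG)) = 7 * H825.SB.He.C33.getD i 0 := by
  rw [E.cen_pow h hk (by rw [ord_of_X hc]; exact hi), cen_of_X hc]

theorem cen_X (E : Emb 7 x e) (i : Fin 33) (hi : ¬ 7 ∣ H825.HT.He7.O33.getD i 0) :
    Nat.card (centralizer ({x * e (X i)} : Set MG)) = 7 * H825.SB.He.C33.getD i 0 := by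
  rw [E.cen_one prime7 (by rw [X_ord]; exact hi), X_cen]

theorem ord_X (E : Emb 7 x e) (i : Fin 33) (hi : ¬ 7 ∣ H825.HT.He7.O33.getD i 0) :
    orderOf (x * e (X i)) = 7 * H825.HT.He7.O33.getD i 0 := by
  rw [E.ord_mul prime7 (by rw [X_ord]; exact hi), X_ord]

theorem mod7 (E : Emb 7 x e) {h : Spor.He} (hh : ¬ 7 ∣ orderOf h) : (7 : ℤ) ∣ ch (x * e h) - ch (e h) := by
  have h1 := ch_pow_prime (x * e h) prime7
  rw [E.pow_dvd h (dvd_refl 7), map_pow, ch_gal (by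
    rw [E.ord_e]; exact (Nat.Prime.coprime_iff_not_dvd prime7).2 hh)] at h1
  exact_mod_cast h1

/-- the powers of `x` -/
theorem ch_x (E : Emb 7 x e) (hx : ch x = 51) (h : Spor.He) {k : ℕ} (hk : ¬ 7 ∣ k) (h1 : orderOf h ∣ k) :
    ch ((x * e h) ^ k) = 51 := by
  rw [E.pow, orderOf_dvd_iff_pow_eq_one.1 h1, map_one, mul_one, ch_gal, hx]
  rw [E.ord]
  exact ((Nat.Prime.coprime_iff_not_dvd prime7).2 hk).symm

/-! ### The elements of order divisible by 5 -/

theorem five_val (E : Emb 7 x e) (hx : ch x = 51) : ch (x * e (X 16)) = 1 ∧ IsConj (xu : MG) (e (X 16)) := by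
  classical
  have := finite
  have := finHe
  obtain ⟨P, hP, hcl⟩ := exists_25
  have := Fintype.ofFinite P
  have := Fintype.ofFinite (P.map e)
  have h1 := ch_avg (P.map e) x (by
    rintro _ ⟨h, -, rfl⟩
    exact E.comm h)
  have h2 : ∑ u : P.map e, ch (x * u) = ∑ h : P, ch (x * e h) :=
    (Fintype.sum_equiv (P.equivMapOfInjective e E.inj).toEquiv _ _ fun h => rfl).symm
  have h3 : ∑ h : P, ch (x * e h) = 51 + 24 * ch (x * e (X 16)) := by
    rw [← Finset.add_sum_erase _ _ (Finset.mem_univ (1 : P)), Finset.sum_congr rfl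
      (g := fun _ => ch (x * e (X 16))) fun (h : P) hh => F_conj E (hcl h h.2 fun h4 =>
        (Finset.mem_erase.1 hh).1 (Subtype.ext h4)), Finset.sum_const, Finset.card_erase_of_mem (Finset.mem_univ _),
      Finset.card_univ, ← Nat.card_eq_fintype_card, hP, OneMemClass.coe_one, map_one, mul_one, hx]
    norm_num
  rw [h2, h3, Subgroup.card_map_of_injective E.inj, hP] at h1
  have ho : orderOf (X 16) = 5 := X_ord 16
  have ho' : orderOf (e (X 16)) = 5 := by rw [E.ord_e, ho]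
  obtain ⟨s, hs, hsc⟩ := exists_comm (h := X 16) Nat.prime_two (by rw [X_cen]; decide)
  have hev : Ev (e (X 16)) := H8.Mon.ev_of_inv ho' (s := e s) (by rw [E.ord_e, hs]) (by
    rw [← map_mul, hsc, map_mul])
  have h4 := mod7 E (h := X 16) (by rw [ho]; norm_num)
  have h5 := bnd 46 (cen_X E 16 (by decide)) (by decide) (by norm_num)
  have h6 : ch (e (X 16)) = 134 ∨ ch (e (X 16)) = 9 :=
    (M5.chr_five ho' hev).imp (fun h => ch_of_chr (by exact_mod_cast h)) fun h => ch_of_chr (by exact_mod_cast h)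
  have h7 : ch (x * e (X 16)) = 1 ∧ ch (e (X 16)) = 134 := by omega
  refine ⟨h7.1, M5.conjA ho' hev ?_⟩
  rw [chr_eq_ch, h7.2]
  norm_num

theorem conj5 (E : Emb 7 x e) (hx : ch x = 51) {h : Spor.He} (hh : orderOf h = 5) : IsConj (xu : MG) (e h) :=
  (five_val E hx).2.trans (e.map_isConj (cl_five hh))

theorem ch5 (E : Emb 7 x e) (hx : ch x = 51) {h : Spor.He} (hh : orderOf h = 5) : ch (e h) = 134 := by
  rw [← ch_isConj (conj5 E hx hh)]
  exact ch_of_chr (by exact_mod_cast M5.chr_xu)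

theorem sec5 (E : Emb 7 x e) (hx : ch x = 51) {g : MG} {m : ℕ} (hm : ¬ 5 ∣ m) (ho : orderOf g = 5 * m) {h : Spor.He}
    (hg : g ^ m = e h) (hh : orderOf h = 5) :
    ∃ t : Ty, t.ord = m ∧ ch g = t.b + 1 ∧ Nat.card (centralizer ({g} : Set MG)) = 5 * t.cen := by
  obtain ⟨t, -, h2, h3, h4⟩ := M5.cen_of_pow hm ho (hg ▸ conj5 E hx hh)
  exact ⟨t, h2, ch_of_chr (by exact_mod_cast h3), h4⟩

theorem v10 (E : Emb 7 x e) (hx : ch x = 51) : ch (e (X 18)) = 22 := by
  have := finite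
  have := finHe
  obtain ⟨t, h1, h2, h3⟩ := sec5 E hx (g := e (X 18)) (m := 2) (by norm_num) (by rw [E.ord_e, o10])
    (map_pow e _ _).symm (ord_pow o10 2)
  have h4 := E.dvd_cen (X 18)
  rw [h3] at h4
  rw [h2]
  exact (by decide +kernel : ∀ t : Ty, t.ord = 2 → 7 ∣ 5 * t.cen → t.b + 1 = 22) t h1 h4

theorem v15 (E : Emb 7 x e) (hx : ch x = 51) : ch (e (X 19)) = 8 := by
  have := finite
  have := finHe
  obtain ⟨t, h1, h2, h3⟩ := sec5 E hx (g := e (X 19)) (m := 3) (by norm_num) (by rw [E.ord_e, o15])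
    (map_pow e _ _).symm (ord_pow o15 3)
  have h4 := E.dvd_cen (X 19)
  rw [h3] at h4
  rw [h2]
  exact (by decide +kernel : ∀ t : Ty, t.ord = 3 → 7 ∣ 5 * t.cen → t.b + 1 = 8) t h1 h4

theorem v70 (E : Emb 7 x e) (hx : ch x = 51) : ch (x * e (X 18)) = 1 := by
  have := finHe
  obtain ⟨t, h1, h2, -⟩ := sec5 E hx (g := x * e (X 18)) (m := 14) (by norm_num) (ord_X E 18 (by decide))
    (E.pow_dvd _ (by norm_num)) (ord_pow o10 14)
  rw [h2]
  exact (by decide +kernel : ∀ t : Ty, t.ord = 14 → t.b + 1 = 1) t h1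

theorem v105 (E : Emb 7 x e) (hx : ch x = 51) : ch (x * e (X 19)) = 1 := by
  have := finHe
  obtain ⟨t, h1, h2, -⟩ := sec5 E hx (g := x * e (X 19)) (m := 21) (by norm_num) (ord_X E 19 (by decide))
    (E.pow_dvd _ (by norm_num)) (ord_pow o15 21)
  rw [h2]
  exact (by decide +kernel : ∀ t : Ty, t.ord = 21 → t.b + 1 = 1) t h1

theorem v2A (E : Emb 7 x e) (hx : ch x = 51) : ch (e (X 5)) = 4372 := by
  have h1 := ch_pow_prime (e (X 18)) Nat.prime_five
  rw [v10 E hx, ← map_pow, G_conj c10_5] at h1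
  have h2 := ch_two (t := e (X 5)) (by rw [E.ord_e]; exact X_ord 5)
  omega

theorem ev3A (E : Emb 7 x e) {h : Spor.He} (hc : IsConj (X 7) h) : Ev (e h) := by
  have := finite
  have := finHe
  obtain ⟨s, hs, hsc⟩ := exists_comm (h := h) Nat.prime_two (by rw [cen_of_X hc]; decide)
  refine ev_of_even (by rw [E.ord_e, ord_of_X hc]; rfl) ?_
  rw [Nat.not_odd_iff_even, even_iff_two_dvd, ← hs, ← E.ord_e]
  exact Subgroup.orderOf_dvd_natCard _ (mem_centralizer_singleton_iff.2 (by rw [← map_mul, hsc, map_mul]))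

theorem v3A (hC : Cover) (E : Emb 7 x e) (hx : ch x = 51) : ch (e (X 7)) = 783 := by
  have h1 := ch_pow_prime (e (X 19)) Nat.prime_five
  rw [v15 E hx, ← map_pow, G_conj c15_5] at h1
  have h2 := ev_three hC (ev3A E (IsConj.refl _)) (by rw [E.ord_e]; exact X_ord 7)
  omega

/-! ### The element of order 12 -/

theorem vals12 : vals 12 = [[(1, -2), (2, -2), (3, 52), (4, 54), (6, 4372)], [(1, -1), (2, 15), (3, 20), (4, 783), (6, 276)],
    [(1, 0), (2, 0), (3, -12), (4, 0), (6, 276)], [(1, 0), (2, 0), (3, 276), (4, 0), (6, 276)],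
    [(1, 2), (2, 6), (3, 20), (4, 54), (6, 276)], [(1, 6), (2, 6), (3, 276), (4, 54), (6, 276)],
    [(1, 6), (2, 78), (3, -12), (4, 54), (6, 276)], [(1, 7), (2, 79), (3, 52), (4, 783), (6, 4372)],
    [(1, 14), (2, 6), (3, 20), (4, 54), (6, 276)], [(1, 15), (2, 15), (3, 276), (4, 783), (6, 276)]] := by
  decide +kernel

theorem v12 (hC : Cover) (hN : CountC) (E : Emb 7 x e) (hx : ch x = 51) :
    ch (e (X 15) ^ 1) = 7 ∧ ch (e (X 15) ^ 2) = 79 ∧ ch (e (X 15) ^ 3) = 52 ∧ ch (e (X 15) ^ 4) = 783 ∧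
      ch (e (X 15) ^ 6) = 4372 := by
  have := finite
  have ho : orderOf (e (X 15)) = 12 := by rw [E.ord_e, o12]
  have h4 : ch (e (X 15) ^ 4) = 783 := by rw [← map_pow, G_conj c12_4, v3A hC E hx]
  have h6 : ch (e (X 15) ^ 6) = 4372 := by rw [← map_pow, G_conj c12_6, v2A E hx]
  have h12 : e (X 15) ^ 12 = 1 := by rw [← ho, pow_orderOf_eq_one]
  have h1 : Ev (e (X 15) ^ 4 * e (X 15) ^ 9) :=
    ev_three_mul hC hN (ord_pow ho 4) (by rw [← map_pow]; exact ev3A E c12_4) (by rw [h4]; norm_num)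
      ((Commute.refl _).pow_pow 9 4).eq (n := 2) (by rw [← pow_mul, show 9 * 2 ^ 2 = 12 * 3 by norm_num, pow_mul, h12, one_pow])
  rw [← pow_add, show 4 + 9 = 12 + 1 by norm_num, pow_succ, h12, one_mul] at h1
  have h2 := ev_vals hC h1 ho vals12
  simp only [List.mem_cons, List.not_mem_nil, or_false, exists_eq_or_imp, exists_eq_left, forall_eq_or_imp,
    forall_eq, h4, h6] at h2
  omega

end

/-- **the element `x` of the class `7A` in the cyclic group of the word of order 28** -/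
theorem base (hC : Cover) (hN : CountC) : ∃ (x : MG) (e : Spor.He →* MG), Emb 7 x e ∧ ch x = 51 ∧
    ch (x * e (X 5)) = 11 ∧ ch (x * e (X 9)) = 3 := by
  have := finite
  have := finHe
  obtain ⟨ho, hv⟩ := (tyM_iff' sg_28A g28).1 ty_28A
  simp only [List.mem_cons, List.not_mem_nil, or_false, forall_eq_or_imp, forall_eq] at hv
  obtain ⟨h1, h2, h4, -, h14⟩ := hv
  have hx : ch (g28 ^ 8) = 51 := by rw [ch_gcd ho 8 4 (by norm_num) (by norm_num), h4]
  have hz : g28 ^ 8 * zz = zz * g28 ^ 8 := ((show Commute g28 zz from g28_comm).pow_left 8).eq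
  obtain ⟨e, E⟩ := exists_he hC hN hz (ord_pow ho 8) hx
  obtain ⟨s, hs⟩ := E.mem (g28 ^ 21) ((Commute.refl _).pow_pow 8 21) (by rw [ord_pow ho]; norm_num)
  obtain ⟨t, ht⟩ := E.mem zz hz (by rw [orderOf_zz]; norm_num)
  have hso : orderOf s = 4 := by rw [← E.ord_e, hs, ord_pow ho]; norm_num
  have hB : ch (e (X 6)) = 276 := by
    have h5 : ch (e t) = 276 := by rw [ht, ch_zz hC]
    rcases cl_two (h := t) (o := 2) 5 6 (by rw [← E.ord_e, ht, orderOf_zz]) (by decide) with h | h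
    · rw [G_conj h, v2A E hx] at h5
      norm_num at h5
    · rw [← G_conj h, h5]
  have hs2 : IsConj (X 5) (s ^ 2) := by
    refine (cl_two (o := 2) 5 6 (ord_pow hso 2) (by decide)).resolve_right fun h => ?_
    rw [← G_conj h, map_pow, hs, ← pow_mul, ch_gcd ho (21 * 2) 14 (by norm_num) (by norm_num), h14] at hB
    norm_num at hB
  refine ⟨_, e, E, hx, ?_, ?_⟩
  · rw [← F_conj E hs2, map_pow, hs, ← pow_mul, ← pow_add, ch_gcd ho (8 + 21 * 2) 2 (by norm_num) (by norm_num), h2]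
  · rw [← F_conj E (cl_four hso hs2), hs, ← pow_add, ch_gcd ho (8 + 21) 1 (by norm_num) (by norm_num), h1]

end Cfsg.Agent.TAB.M7
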